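import Cfsg.Agent.Lib.Helper2.HNA.WP

set_option autoImplicit false
set_option maxRecDepth 100000

/-! # Ten elements of the presented Harada–Norton group satisfying Carmichael's relations for the
alternating group of degree twelve -/

namespace Cfsg.Agent.Lib.Helper2.HNA

open Cfsg.Spor Cfsg.Agent.Lib.Helper6.TC Cfsg.Agent.Lib.Helper6.TCP Cfsg.Agent.Lib.Helper2.HNDce
open Cfsg.Agent.Lib.Helper2.HNS

/-- the ten words (three-cycles `(a b k)` of a subgroup `A₁₂ = ⟨x, y², z, t⟩`) -/
def yl : List (List ℕ) := [[4, 2, 2, 4, 3, 3], [6, 4, 2, 2, 4, 3, 3, 5], [5, 4, 2, 2, 4, 3, 3, 6], [4, 2, 2, 4, 2, 2, 4, 2, 2, 4], [6, 6, 4, 2, 2, 4, 3, 3, 5, 5], [5, 5, 4, 2, 2, 4, 3, 3, 6, 6], [0, 2, 2, 0, 3, 3, 0, 2, 2, 0, 3, 3], [4, 2, 2, 1, 4, 2, 2, 4, 3, 3, 0, 3, 3, 4], [3, 3, 0, 4, 2, 2, 4, 2, 2, 4, 2, 2, 4, 2, 2, 1, 2, 2], [2, 2, 4, 3, 3, 1, 3, 3, 4, 2, 2, 4, 0, 2, 2, 4, 3, 3]]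

/-- the `i`-th word -/
def yw (i : ℕ) : List ℕ := yl.getD i []

/-- the check of a word on the six base points -/
noncomputable def fixB (w : List ℕ) : Bool := base6.all (fun b => Nat.beq (wapp HNBig.px w b) b)

/-- the check of all relations -/
noncomputable def relsOK : Bool :=
  (List.range 10).all (fun i => fixB (yw i ++ yw i ++ yw i) &&
    (List.range 10).all (fun j => Nat.beq i j || fixB (yw i ++ yw j ++ (yw i ++ yw j))))

set_option Elab.async false in
theorem relsOK_true : relsOK = true := by decide +kernel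

theorem yw_lt : ∀ i, ∀ c ∈ yw i, c < 7 := by
  intro i
  by_cases hi : i < 10
  · interval_cases i <;> decide
  · intro c hc
    unfold yw at hc
    rw [List.getD_eq_default _ _ (by simp [yl]; omega)] at hc
    simp at hc

theorem fixB_spec {w : List ℕ} (hw : ∀ c ∈ w, c < 7) (h : fixB w = true) : ev7 w = 1 := by
  apply word_trivial w hw
  intro b hb
  unfold fixB at h
  rw [List.all_eq_true] at h
  exact Nat.eq_of_beq_eq_true (h b hb)

/-- the ten elements -/
noncomputable def yv (i : Fin 10) : HNG := ev7 (yw i.val)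

theorem yv_pow_three (i : Fin 10) : yv i ^ 3 = 1 := by
  have h := relsOK_true
  unfold relsOK at h
  rw [List.all_eq_true] at h
  have hi := h i.val (List.mem_range.mpr i.isLt)
  rw [Bool.and_eq_true] at hi
  have h1 := fixB_spec (w := yw i.val ++ yw i.val ++ yw i.val) (by
    intro c hc
    rw [List.mem_append, List.mem_append] at hc
    rcases hc with (hc | hc) | hc <;> exact yw_lt _ c hc) hi.1
  rw [ev7_append, ev7_append] at h1
  unfold yv
  rw [pow_succ, pow_succ, pow_one]
  exact h1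

theorem yv_mul_sq (i j : Fin 10) (hij : i ≠ j) : (yv i * yv j) ^ 2 = 1 := by
  have h := relsOK_true
  unfold relsOK at h
  rw [List.all_eq_true] at h
  have hi := h i.val (List.mem_range.mpr i.isLt)
  rw [Bool.and_eq_true, List.all_eq_true] at hi
  have hj := hi.2 j.val (List.mem_range.mpr j.isLt)
  rw [Bool.or_eq_true] at hj
  rcases hj with hj | hj
  · exact absurd (Fin.ext (Nat.eq_of_beq_eq_true hj)) hij
  · have h1 := fixB_spec (w := yw i.val ++ yw j.val ++ (yw i.val ++ yw j.val)) (by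
      intro c hc
      rw [List.mem_append, List.mem_append] at hc
      rcases hc with (hc | hc) | (hc | hc) <;> exact yw_lt _ c hc) hj
    rw [ev7_append, ev7_append] at h1
    unfold yv
    rw [pow_two]
    exact h1

set_option Elab.async false in
theorem y0_moves : wapp HNBig.px (yw 0) 1 ≠ 1 := by decide +kernel

theorem yv_zero_ne_one : yv 0 ≠ 1 :=
  word_ne_one (yw 0) (yw_lt 0) 1 (by decide) y0_moves

end Cfsg.Agent.Lib.Helper2.HNA
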