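import Cfsg.Agent.Lib.Helper2.HNDce3b
import Cfsg.Agent.Lib.Helper2.HNBig.Main

set_option autoImplicit false
set_option maxRecDepth 100000

/-! # A chain of stabilisers for the subgroup generated by x, y, z in the model on 1539000 points -/

namespace Cfsg.Agent.Lib.Helper2.HNA

open Cfsg.Agent.Lib.Helper6.TC Cfsg.Agent.Lib.Helper2.HNDce

/-- level 0 of the chain -/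
def lvB0 : ℕ × List (ℕ × List ℕ) := (1, [
  (2, [0, 0]),
  (3, [0]),
  (4, [1]),
  (5, [4]),
  (6, [0, 0, 4]),
  (7, [0, 4]),
  (8, [1, 4]),
  (9, [4, 2]),
  (10, [4, 3]),
  (12, [0, 0, 4, 2]),
  (13, [0, 0, 4, 3]),
  (15, [0, 4, 2]),
  (16, [0, 4, 3]),
  (19, [1, 4, 2]),
  (20, [1, 4, 3]),
  (22, [4, 2, 0]),
  (23, [4, 2, 1]),
  (24, [4, 2, 2]),
  (25, [4, 2, 4]),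
  (27, [4, 3, 0]),
  (28, [4, 3, 1]),
  (29, [4, 3, 3]),
  (30, [4, 3, 4]),
  (33, [0, 0, 4, 2, 2]),
  (34, [0, 0, 4, 2, 4]),
  (36, [0, 0, 4, 3, 3]),
  (37, [0, 0, 4, 3, 4]),
  (39, [0, 4, 2, 0]),
  (40, [0, 4, 2, 1]),
  (41, [0, 4, 2, 2]),
  (42, [0, 4, 2, 4]),
  (45, [0, 4, 3, 0]),
  (46, [0, 4, 3, 1]),
  (47, [0, 4, 3, 3]),
  (48, [0, 4, 3, 4]),
  (51, [1, 4, 2, 2]),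
  (52, [1, 4, 2, 4]),
  (54, [1, 4, 3, 3]),
  (55, [1, 4, 3, 4]),
  (57, [4, 2, 0, 2]),
  (58, [4, 2, 0, 4]),
  (61, [4, 2, 1, 2]),
  (62, [4, 2, 1, 4]),
  (64, [4, 2, 2, 0]),
  (65, [4, 2, 2, 1]),
  (66, [4, 2, 2, 2]),
  (67, [4, 2, 2, 4]),
  (69, [4, 2, 4, 2]),
  (70, [4, 2, 4, 3]),
  (75, [4, 3, 0, 4]),
  (78, [4, 3, 1, 4]),
  (80, [4, 3, 3, 0]),
  (81, [4, 3, 3, 1]),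
  (82, [4, 3, 3, 4]),
  (84, [4, 3, 4, 2]),
  (85, [4, 3, 4, 3]),
  (90, [0, 0, 4, 2, 2, 2]),
  (91, [0, 0, 4, 2, 2, 4]),
  (93, [0, 0, 4, 2, 4, 2]),
  (94, [0, 0, 4, 2, 4, 3]),
  (98, [0, 0, 4, 3, 3, 4]),
  (100, [0, 0, 4, 3, 4, 2]),
  (101, [0, 0, 4, 3, 4, 3]),
  (105, [0, 4, 2, 0, 2]),
  (106, [0, 4, 2, 0, 4]),
  (108, [0, 4, 2, 1, 2]),
  (109, [0, 4, 2, 1, 4]),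
  (111, [0, 4, 2, 2, 0]),
  (112, [0, 4, 2, 2, 1]),
  (113, [0, 4, 2, 2, 2]),
  (114, [0, 4, 2, 2, 4]),
  (117, [0, 4, 2, 4, 2]),
  (118, [0, 4, 2, 4, 3]),
  (124, [0, 4, 3, 0, 4]),
  (126, [0, 4, 3, 1, 4]),
  (128, [0, 4, 3, 3, 0]),
  (129, [0, 4, 3, 3, 1]),
  (130, [0, 4, 3, 3, 4]),
  (133, [0, 4, 3, 4, 2]),
  (134, [0, 4, 3, 4, 3]),
  (140, [1, 4, 2, 2, 2]),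
  (141, [1, 4, 2, 2, 4]),
  (143, [1, 4, 2, 4, 2]),
  (144, [1, 4, 2, 4, 3]),
  (148, [1, 4, 3, 3, 4]),
  (150, [1, 4, 3, 4, 2]),
  (151, [1, 4, 3, 4, 3]),
  (155, [4, 2, 0, 2, 4]),
  (158, [4, 2, 0, 4, 2]),
  (163, [4, 2, 1, 2, 4]),
  (165, [4, 2, 1, 4, 2]),
  (169, [4, 2, 2, 0, 2]),
  (170, [4, 2, 2, 0, 3]),
  (171, [4, 2, 2, 0, 4]),
  (174, [4, 2, 2, 1, 2]),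
  (175, [4, 2, 2, 1, 3]),
  (176, [4, 2, 2, 1, 4]),
  (178, [4, 2, 2, 2, 0]),
  (179, [4, 2, 2, 2, 1]),
  (180, [4, 2, 2, 2, 4]),
  (182, [4, 2, 2, 4, 2]),
  (183, [4, 2, 2, 4, 3]),
  (188, [4, 2, 4, 2, 0]),
  (189, [4, 2, 4, 2, 1]),
  (190, [4, 2, 4, 2, 2]),
  (191, [4, 2, 4, 2, 4]),
  (194, [4, 2, 4, 3, 3]),
  (195, [4, 2, 4, 3, 4]),
  (209, [4, 3, 0, 4, 3]),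
  (214, [4, 3, 1, 4, 3]),
  (218, [4, 3, 3, 0, 3]),
  (219, [4, 3, 3, 0, 4]),
  (222, [4, 3, 3, 1, 3]),
  (223, [4, 3, 3, 1, 4]),
  (225, [4, 3, 3, 4, 2]),
  (230, [4, 3, 4, 2, 2]),
  (231, [4, 3, 4, 2, 4]),
  (234, [4, 3, 4, 3, 0]),
  (235, [4, 3, 4, 3, 1]),
  (236, [4, 3, 4, 3, 3]),
  (237, [4, 3, 4, 3, 4]),
  (251, [0, 0, 4, 2, 2, 2, 4]),
  (253, [0, 0, 4, 2, 2, 4, 2]),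
  (254, [0, 0, 4, 2, 2, 4, 3]),
  (258, [0, 0, 4, 2, 4, 2, 2]),
  (259, [0, 0, 4, 2, 4, 2, 4]),
  (262, [0, 0, 4, 2, 4, 3, 3]),
  (263, [0, 0, 4, 2, 4, 3, 4]),
  (270, [0, 0, 4, 3, 3, 4, 2]),
  (274, [0, 0, 4, 3, 4, 2, 2]),
  (275, [0, 0, 4, 3, 4, 2, 4]),
  (278, [0, 0, 4, 3, 4, 3, 3]),
  (279, [0, 0, 4, 3, 4, 3, 4]),
  (286, [0, 4, 2, 0, 2, 4]),
  (288, [0, 4, 2, 0, 4, 2]),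
  (292, [0, 4, 2, 1, 2, 4]),
  (294, [0, 4, 2, 1, 4, 2]),
  (298, [0, 4, 2, 2, 0, 2]),
  (299, [0, 4, 2, 2, 0, 3]),
  (300, [0, 4, 2, 2, 0, 4]),
  (302, [0, 4, 2, 2, 1, 2]),
  (303, [0, 4, 2, 2, 1, 3]),
  (304, [0, 4, 2, 2, 1, 4]),
  (306, [0, 4, 2, 2, 2, 0]),
  (307, [0, 4, 2, 2, 2, 1]),
  (308, [0, 4, 2, 2, 2, 4]),
  (311, [0, 4, 2, 2, 4, 2]),
  (312, [0, 4, 2, 2, 4, 3]),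
  (318, [0, 4, 2, 4, 2, 0]),
  (319, [0, 4, 2, 4, 2, 1]),
  (320, [0, 4, 2, 4, 2, 2]),
  (321, [0, 4, 2, 4, 2, 4]),
  (324, [0, 4, 2, 4, 3, 3]),
  (325, [0, 4, 2, 4, 3, 4]),
  (343, [0, 4, 3, 0, 4, 3]),
  (347, [0, 4, 3, 1, 4, 3]),
  (351, [0, 4, 3, 3, 0, 3]),
  (352, [0, 4, 3, 3, 0, 4]),
  (354, [0, 4, 3, 3, 1, 3]),
  (355, [0, 4, 3, 3, 1, 4]),
  (357, [0, 4, 3, 3, 4, 2]),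
  (363, [0, 4, 3, 4, 2, 2]),
  (364, [0, 4, 3, 4, 2, 4]),
  (367, [0, 4, 3, 4, 3, 0]),
  (368, [0, 4, 3, 4, 3, 1]),
  (369, [0, 4, 3, 4, 3, 3]),
  (370, [0, 4, 3, 4, 3, 4]),
  (387, [1, 4, 2, 2, 2, 4]),
  (389, [1, 4, 2, 2, 4, 2]),
  (390, [1, 4, 2, 2, 4, 3]),
  (394, [1, 4, 2, 4, 2, 2]),
  (395, [1, 4, 2, 4, 2, 4]),
  (398, [1, 4, 2, 4, 3, 3]),
  (399, [1, 4, 2, 4, 3, 4]),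
  (408, [1, 4, 3, 3, 4, 2]),
  (412, [1, 4, 3, 4, 2, 2]),
  (413, [1, 4, 3, 4, 2, 4]),
  (416, [1, 4, 3, 4, 3, 3]),
  (417, [1, 4, 3, 4, 3, 4]),
  (426, [4, 2, 0, 2, 4, 2]),
  (427, [4, 2, 0, 2, 4, 3]),
  (431, [4, 2, 0, 4, 2, 0]),
  (432, [4, 2, 0, 4, 2, 1]),
  (433, [4, 2, 0, 4, 2, 2]),
  (434, [4, 2, 0, 4, 2, 4]),
  (445, [4, 2, 1, 2, 4, 2]),
  (446, [4, 2, 1, 2, 4, 3]),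
  (450, [4, 2, 1, 4, 2, 2]),
  (451, [4, 2, 1, 4, 2, 4]),
  (458, [4, 2, 2, 0, 2, 0]),
  (459, [4, 2, 2, 0, 2, 1]),
  (460, [4, 2, 2, 0, 2, 2]),
  (461, [4, 2, 2, 0, 2, 4]),
  (464, [4, 2, 2, 0, 3, 4]),
  (467, [4, 2, 2, 0, 4, 2]),
  (468, [4, 2, 2, 0, 4, 3]),
  (473, [4, 2, 2, 1, 2, 2]),
  (474, [4, 2, 2, 1, 2, 4]),
  (476, [4, 2, 2, 1, 3, 4]),
  (478, [4, 2, 2, 1, 4, 2]),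
  (479, [4, 2, 2, 1, 4, 3]),
  (483, [4, 2, 2, 2, 0, 2]),
  (484, [4, 2, 2, 2, 0, 3]),
  (485, [4, 2, 2, 2, 0, 4]),
  (488, [4, 2, 2, 2, 1, 2]),
  (489, [4, 2, 2, 2, 1, 3]),
  (490, [4, 2, 2, 2, 1, 4]),
  (492, [4, 2, 2, 2, 4, 2]),
  (493, [4, 2, 2, 2, 4, 3]),
  (498, [4, 2, 2, 4, 2, 0]),
  (499, [4, 2, 2, 4, 2, 1]),
  (500, [4, 2, 2, 4, 2, 4]),
  (503, [4, 2, 2, 4, 3, 0]),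
  (504, [4, 2, 2, 4, 3, 1]),
  (505, [4, 2, 2, 4, 3, 3]),
  (506, [4, 2, 2, 4, 3, 4]),
  (520, [4, 2, 4, 2, 0, 2]),
  (521, [4, 2, 4, 2, 0, 3]),
  (522, [4, 2, 4, 2, 0, 4]),
  (525, [4, 2, 4, 2, 1, 2]),
  (526, [4, 2, 4, 2, 1, 3]),
  (527, [4, 2, 4, 2, 1, 4]),
  (530, [4, 2, 4, 2, 2, 0]),
  (531, [4, 2, 4, 2, 2, 1]),
  (532, [4, 2, 4, 2, 2, 2]),
  (533, [4, 2, 4, 2, 2, 4]),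
  (536, [4, 2, 4, 2, 4, 2]),
  (537, [4, 2, 4, 2, 4, 3]),
  (548, [4, 2, 4, 3, 3, 0]),
  (549, [4, 2, 4, 3, 3, 1]),
  (550, [4, 2, 4, 3, 3, 4]),
  (553, [4, 2, 4, 3, 4, 3]),
  (587, [4, 3, 0, 4, 3, 0]),
  (588, [4, 3, 0, 4, 3, 1]),
  (589, [4, 3, 0, 4, 3, 3]),
  (600, [4, 3, 1, 4, 3, 3]),
  (601, [4, 3, 1, 4, 3, 4]),
  (608, [4, 3, 3, 0, 3, 0]),
  (609, [4, 3, 3, 0, 3, 1]),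
  (610, [4, 3, 3, 0, 3, 4]),
  (613, [4, 3, 3, 0, 4, 3]),
  (618, [4, 3, 3, 1, 3, 4]),
  (620, [4, 3, 3, 1, 4, 3]),
  (624, [4, 3, 3, 4, 2, 0]),
  (625, [4, 3, 3, 4, 2, 1]),
  (626, [4, 3, 3, 4, 2, 4]),
  (640, [4, 3, 4, 2, 2, 0]),
  (641, [4, 3, 4, 2, 2, 1]),
  (642, [4, 3, 4, 2, 2, 2]),
  (643, [4, 3, 4, 2, 2, 4]),
  (655, [4, 3, 4, 3, 0, 3]),
  (656, [4, 3, 4, 3, 0, 4]),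
  (659, [4, 3, 4, 3, 1, 3]),
  (660, [4, 3, 4, 3, 1, 4]),
  (663, [4, 3, 4, 3, 3, 0]),
  (664, [4, 3, 4, 3, 3, 1]),
  (665, [4, 3, 4, 3, 3, 4]),
  (668, [4, 3, 4, 3, 4, 2]),
  (669, [4, 3, 4, 3, 4, 3]),
  (700, [4, 2, 0, 2, 4, 3, 3]),
  (701, [4, 2, 0, 2, 4, 2, 2]),
  (705, [0, 0, 4, 2, 2, 4, 2, 4]),
  (708, [0, 0, 4, 2, 2, 4, 3, 3]),
  (709, [4, 3, 4, 3, 4, 2, 1]),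
  (718, [0, 0, 4, 2, 4, 2, 2, 2]),
  (719, [0, 0, 4, 2, 4, 2, 2, 4]),
  (722, [0, 0, 4, 2, 4, 2, 4, 2]),
  (723, [4, 3, 3, 4, 2, 1, 4]),
  (730, [0, 0, 4, 2, 4, 3, 3, 4]),
  (742, [4, 2, 4, 2, 4, 3, 1]),
  (751, [0, 0, 4, 3, 4, 2, 2, 2]),
  (752, [0, 0, 4, 3, 4, 2, 2, 4]),
  (759, [0, 0, 4, 3, 4, 3, 3, 4]),
  (762, [4, 2, 2, 4, 3, 1, 4]),
  (763, [0, 0, 4, 3, 4, 3, 4, 3]),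
  (775, [0, 4, 2, 0, 2, 4, 2]),
  (776, [0, 4, 2, 0, 2, 4, 3]),
  (779, [0, 4, 2, 0, 4, 2, 0]),
  (780, [0, 4, 2, 0, 4, 2, 1]),
  (781, [0, 4, 2, 0, 4, 2, 2]),
  (782, [0, 4, 2, 0, 4, 2, 4]),
  (789, [0, 4, 2, 1, 2, 4, 2]),
  (790, [0, 4, 2, 1, 2, 4, 3]),
  (793, [0, 4, 2, 1, 4, 2, 2]),
  (794, [0, 4, 2, 1, 4, 2, 4]),
  (801, [0, 4, 2, 2, 0, 2, 0]),
  (802, [0, 4, 2, 2, 0, 2, 1]),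
  (803, [0, 4, 2, 2, 0, 2, 2]),
  (804, [0, 4, 2, 2, 0, 2, 4]),
  (806, [0, 4, 2, 2, 0, 3, 4]),
  (808, [0, 4, 2, 2, 0, 4, 2]),
  (809, [0, 4, 2, 2, 0, 4, 3]),
  (813, [0, 4, 2, 2, 1, 2, 2]),
  (814, [0, 4, 2, 2, 1, 2, 4]),
  (816, [0, 4, 2, 2, 1, 3, 4]),
  (818, [0, 4, 2, 2, 1, 4, 2]),
  (819, [0, 4, 2, 2, 1, 4, 3]),
  (823, [0, 4, 2, 2, 2, 0, 2]),
  (824, [0, 4, 2, 2, 2, 0, 3]),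
  (825, [0, 4, 2, 2, 2, 0, 4]),
  (827, [0, 4, 2, 2, 2, 1, 2]),
  (828, [0, 4, 2, 2, 2, 1, 3]),
  (829, [0, 4, 2, 2, 2, 1, 4]),
  (831, [0, 4, 2, 2, 2, 4, 2]),
  (832, [0, 4, 2, 2, 2, 4, 3]),
  (838, [0, 4, 2, 2, 4, 2, 0]),
  (839, [0, 4, 2, 2, 4, 2, 1]),
  (840, [0, 4, 2, 2, 4, 2, 4]),
  (843, [0, 4, 2, 2, 4, 3, 0]),
  (844, [0, 4, 2, 2, 4, 3, 1]),
  (845, [0, 4, 2, 2, 4, 3, 3]),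
  (846, [0, 4, 2, 2, 4, 3, 4]),
  (866, [0, 4, 2, 4, 2, 0, 2]),
  (867, [0, 4, 2, 4, 2, 0, 3]),
  (868, [0, 4, 2, 4, 2, 0, 4]),
  (871, [0, 4, 2, 4, 2, 1, 2]),
  (872, [0, 4, 2, 4, 2, 1, 3]),
  (873, [0, 4, 2, 4, 2, 1, 4]),
  (876, [0, 4, 2, 4, 2, 2, 0]),
  (877, [0, 4, 2, 4, 2, 2, 1]),
  (878, [0, 4, 2, 4, 2, 2, 2]),
  (879, [0, 4, 2, 4, 2, 2, 4]),
  (882, [0, 4, 2, 4, 2, 4, 2]),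
  (883, [0, 4, 2, 4, 2, 4, 3]),
  (894, [0, 4, 2, 4, 3, 3, 0]),
  (895, [0, 4, 2, 4, 3, 3, 1]),
  (896, [0, 4, 2, 4, 3, 3, 4]),
  (899, [0, 4, 2, 4, 3, 4, 3]),
  (931, [0, 4, 3, 0, 4, 3, 0]),
  (932, [0, 4, 3, 0, 4, 3, 1]),
  (933, [0, 4, 3, 0, 4, 3, 3]),
  (939, [0, 4, 3, 1, 4, 3, 3]),
  (940, [0, 4, 3, 1, 4, 3, 4]),
  (946, [0, 4, 3, 3, 0, 3, 0]),
  (947, [0, 4, 3, 3, 0, 3, 1]),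
  (948, [0, 4, 3, 3, 0, 3, 4]),
  (950, [0, 4, 3, 3, 0, 4, 3]),
  (954, [0, 4, 3, 3, 1, 3, 4]),
  (956, [0, 4, 3, 3, 1, 4, 3]),
  (960, [0, 4, 3, 3, 4, 2, 0]),
  (961, [0, 4, 3, 3, 4, 2, 1]),
  (962, [0, 4, 3, 3, 4, 2, 4]),
  (980, [0, 4, 3, 4, 2, 2, 0]),
  (981, [0, 4, 3, 4, 2, 2, 1]),
  (982, [0, 4, 3, 4, 2, 2, 2]),
  (983, [0, 4, 3, 4, 2, 2, 4]),
  (986, [0, 4, 3, 4, 3, 0, 3]),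
  (987, [0, 4, 3, 4, 3, 0, 4]),
  (990, [0, 4, 3, 4, 3, 1, 3]),
  (991, [0, 4, 3, 4, 3, 1, 4]),
  (994, [0, 4, 3, 4, 3, 3, 0]),
  (995, [0, 4, 3, 4, 3, 3, 1]),
  (996, [0, 4, 3, 4, 3, 3, 4]),
  (999, [0, 4, 3, 4, 3, 4, 2]),
  (1000, [0, 4, 3, 4, 3, 4, 3]),
  (1040, [1, 4, 2, 2, 2, 4, 2]),
  (1041, [1, 4, 2, 2, 2, 4, 3]),
  (1045, [1, 4, 2, 2, 4, 2, 4]),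
  (1048, [1, 4, 2, 2, 4, 3, 3]),
  (1049, [1, 4, 2, 2, 4, 3, 4]),
  (1058, [1, 4, 2, 4, 2, 2, 2]),
  (1059, [1, 4, 2, 4, 2, 2, 4]),
  (1062, [1, 4, 2, 4, 2, 4, 2]),
  (1063, [1, 4, 2, 4, 2, 4, 3]),
  (1070, [1, 4, 2, 4, 3, 3, 4]),
  (1078, [1, 4, 3, 3, 4, 2, 4]),
  (1087, [1, 4, 3, 4, 2, 2, 2]),
  (1088, [1, 4, 3, 4, 2, 2, 4]),
  (1091, [1, 4, 3, 4, 3, 3, 4]),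
  (1094, [1, 4, 3, 4, 3, 4, 2]),
  (1095, [1, 4, 3, 4, 3, 4, 3]),
  (1107, [4, 2, 0, 2, 4, 2, 4]),
  (1110, [4, 2, 0, 2, 4, 3, 4]),
  (1119, [4, 2, 0, 4, 2, 0, 4]),
  (1122, [4, 2, 0, 4, 2, 1, 4]),
  (1125, [4, 2, 0, 4, 2, 2, 0]),
  (1126, [4, 2, 0, 4, 2, 2, 1]),
  (1127, [4, 2, 0, 4, 2, 2, 4]),
  (1130, [4, 2, 0, 4, 2, 4, 2]),
  (1160, [4, 2, 1, 2, 4, 2, 4]),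
  (1163, [4, 2, 1, 2, 4, 3, 4]),
  (1170, [4, 2, 1, 4, 2, 2, 4]),
  (1173, [4, 2, 1, 4, 2, 4, 2]),
  (1184, [4, 2, 2, 0, 2, 0, 2]),
  (1185, [4, 2, 2, 0, 2, 0, 3]),
  (1186, [4, 2, 2, 0, 2, 0, 4]),
  (1188, [4, 2, 2, 0, 2, 1, 2]),
  (1189, [4, 2, 2, 0, 2, 1, 3]),
  (1190, [4, 2, 2, 0, 2, 1, 4]),
  (1192, [4, 2, 2, 0, 2, 2, 0]),
  (1193, [4, 2, 2, 0, 2, 2, 1]),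
  (1194, [4, 2, 2, 0, 2, 2, 4]),
  (1197, [4, 2, 2, 0, 2, 4, 2]),
  (1198, [4, 2, 2, 0, 2, 4, 3]),
  (1204, [4, 2, 2, 0, 3, 4, 2]),
  (1205, [4, 2, 2, 0, 3, 4, 3]),
  (1209, [4, 2, 2, 0, 4, 2, 0]),
  (1210, [4, 2, 2, 0, 4, 2, 1]),
  (1211, [4, 2, 2, 0, 4, 2, 4]),
  (1214, [4, 2, 2, 0, 4, 3, 4]),
  (1225, [4, 2, 2, 1, 2, 2, 4]),
  (1227, [4, 2, 2, 1, 2, 4, 2]),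
  (1228, [4, 2, 2, 1, 2, 4, 3]),
  (1232, [4, 2, 2, 1, 3, 4, 2]),
  (1233, [4, 2, 2, 1, 3, 4, 3]),
  (1237, [4, 2, 2, 1, 4, 2, 4]),
  (1240, [4, 2, 2, 1, 4, 3, 4]),
  (1247, [4, 2, 2, 2, 0, 2, 0]),
  (1248, [4, 2, 2, 2, 0, 2, 1]),
  (1249, [4, 2, 2, 2, 0, 2, 4]),
  (1252, [4, 2, 2, 2, 0, 3, 0]),
  (1253, [4, 2, 2, 2, 0, 3, 1]),
  (1254, [4, 2, 2, 2, 0, 3, 4]),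
  (1257, [4, 2, 2, 2, 0, 4, 2]),
  (1258, [4, 2, 2, 2, 0, 4, 3]),
  (1263, [4, 2, 2, 2, 1, 2, 4]),
  (1265, [4, 2, 2, 2, 1, 3, 4]),
  (1267, [4, 2, 2, 2, 1, 4, 2]),
  (1268, [4, 2, 2, 2, 1, 4, 3]),
  (1272, [4, 2, 2, 2, 4, 2, 0]),
  (1273, [4, 2, 2, 2, 4, 2, 1]),
  (1274, [4, 2, 2, 2, 4, 2, 4]),
  (1277, [4, 2, 2, 2, 4, 3, 0]),
  (1278, [4, 2, 2, 2, 4, 3, 1]),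
  (1279, [4, 2, 2, 2, 4, 3, 4]),
  (1293, [4, 2, 2, 4, 2, 0, 2]),
  (1294, [4, 2, 2, 4, 2, 0, 3]),
  (1295, [4, 2, 2, 4, 2, 0, 4]),
  (1298, [4, 2, 2, 4, 2, 1, 2]),
  (1299, [4, 2, 2, 4, 2, 1, 3]),
  (1300, [4, 2, 2, 4, 2, 1, 4]),
  (1303, [4, 2, 2, 4, 2, 4, 2]),
  (1304, [4, 2, 2, 4, 2, 4, 3]),
  (1319, [4, 2, 2, 4, 3, 3, 4]),
  (1322, [4, 2, 2, 4, 3, 4, 2]),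
  (1323, [4, 2, 2, 4, 3, 4, 3]),
  (1363, [4, 2, 4, 2, 0, 2, 0]),
  (1364, [4, 2, 4, 2, 0, 2, 1]),
  (1365, [4, 2, 4, 2, 0, 2, 2]),
  (1366, [4, 2, 4, 2, 0, 2, 4]),
  (1369, [4, 2, 4, 2, 0, 3, 4]),
  (1372, [4, 2, 4, 2, 0, 4, 2]),
  (1377, [4, 2, 4, 2, 1, 2, 2]),
  (1378, [4, 2, 4, 2, 1, 2, 4]),
  (1381, [4, 2, 4, 2, 1, 3, 4]),
  (1384, [4, 2, 4, 2, 1, 4, 2]),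
  (1389, [4, 2, 4, 2, 2, 0, 3]),
  (1390, [4, 2, 4, 2, 2, 0, 4]),
  (1393, [4, 2, 4, 2, 2, 1, 3]),
  (1394, [4, 2, 4, 2, 2, 1, 4]),
  (1397, [4, 2, 4, 2, 2, 2, 0]),
  (1398, [4, 2, 4, 2, 2, 2, 1]),
  (1399, [4, 2, 4, 2, 2, 2, 4]),
  (1402, [4, 2, 4, 2, 2, 4, 2]),
  (1403, [4, 2, 4, 2, 2, 4, 3]),
  (1414, [4, 2, 4, 2, 4, 2, 0]),
  (1415, [4, 2, 4, 2, 4, 2, 1]),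
  (1416, [4, 2, 4, 2, 4, 2, 2]),
  (1417, [4, 2, 4, 2, 4, 2, 4]),
  (1420, [4, 2, 4, 2, 4, 3, 3]),
  (1451, [4, 2, 4, 3, 3, 0, 4]),
  (1454, [4, 2, 4, 3, 3, 1, 4]),
  (1457, [4, 2, 4, 3, 3, 4, 3]),
  (1468, [4, 2, 4, 3, 4, 3, 0]),
  (1469, [4, 2, 4, 3, 4, 3, 1]),
  (1470, [4, 2, 4, 3, 4, 3, 3]),
  (1538, [4, 3, 0, 4, 3, 3, 0]),
  (1539, [4, 3, 0, 4, 3, 3, 1]),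
  (1540, [4, 3, 0, 4, 3, 3, 4]),
  (1570, [4, 3, 1, 4, 3, 3, 4]),
  (1573, [4, 3, 1, 4, 3, 4, 3]),
  (1584, [4, 3, 3, 0, 3, 0, 2]),
  (1585, [4, 3, 3, 0, 3, 0, 3]),
  (1586, [4, 3, 3, 0, 3, 0, 4]),
  (1588, [4, 3, 3, 0, 3, 1, 2]),
  (1589, [4, 3, 3, 0, 3, 1, 3]),
  (1590, [4, 3, 3, 0, 3, 1, 4]),
  (1592, [4, 3, 3, 0, 3, 4, 3]),
  (1598, [4, 3, 3, 0, 4, 3, 0]),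
  (1599, [4, 3, 3, 0, 4, 3, 1]),
  (1600, [4, 3, 3, 0, 4, 3, 4]),
  (1611, [4, 3, 3, 1, 3, 4, 3]),
  (1615, [4, 3, 3, 1, 4, 3, 4]),
  (1626, [4, 3, 3, 4, 2, 4, 2]),
  (1663, [4, 3, 4, 2, 2, 1, 4]),
  (1666, [4, 3, 4, 2, 2, 2, 4]),
  (1669, [4, 3, 4, 2, 2, 4, 2]),
  (1686, [4, 3, 4, 3, 0, 3, 0]),
  (1687, [4, 3, 4, 3, 0, 3, 1]),
  (1688, [4, 3, 4, 3, 0, 3, 4]),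
  (1691, [4, 3, 4, 3, 0, 4, 3]),
  (1696, [4, 3, 4, 3, 1, 3, 4]),
  (1699, [4, 3, 4, 3, 1, 4, 3]),
  (1704, [4, 3, 4, 3, 3, 0, 2]),
  (1705, [4, 3, 4, 3, 3, 0, 4]),
  (1708, [4, 3, 4, 3, 3, 1, 2]),
  (1709, [4, 3, 4, 3, 3, 1, 4]),
  (1712, [4, 3, 4, 3, 3, 4, 2]),
  (1713, [4, 3, 4, 3, 3, 4, 3]),
  (1724, [4, 3, 4, 3, 4, 2, 2]),
  (1727, [4, 3, 4, 3, 4, 3, 0]),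
  (1728, [4, 3, 4, 3, 4, 3, 1]),
  (1729, [4, 3, 4, 3, 4, 3, 3]),
  (1730, [4, 3, 4, 3, 4, 3, 4]),
  (1810, [0, 0, 4, 2, 2, 4, 2, 4, 2]),
  (1811, [0, 0, 4, 2, 2, 4, 2, 4, 3]),
  (1818, [4, 2, 2, 1, 4, 3, 4, 2]),
  (1821, [4, 2, 2, 1, 3, 4, 3, 4]),
  (1837, [0, 0, 4, 2, 4, 2, 2, 2, 4]),
  (1840, [0, 0, 4, 2, 4, 2, 2, 4, 2]),
  (1841, [0, 0, 4, 2, 4, 2, 2, 4, 3]),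
  (1848, [0, 0, 4, 2, 4, 2, 4, 2, 2]),
  (1849, [0, 0, 4, 2, 4, 2, 4, 2, 4]),
  (1866, [0, 0, 4, 2, 4, 3, 3, 4, 3]),
  (1883, [4, 2, 2, 1, 3, 4, 2, 4]),
  (1899, [0, 0, 4, 3, 4, 2, 2, 2, 4]),
  (1902, [0, 0, 4, 3, 4, 2, 2, 4, 2]),
  (1910, [0, 0, 4, 3, 4, 3, 3, 4, 2]),
  (1911, [0, 0, 4, 3, 4, 3, 3, 4, 3]),
  (1920, [0, 0, 4, 3, 4, 3, 4, 3, 3]),
  (1921, [0, 0, 4, 3, 4, 3, 4, 3, 4]),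
  (1945, [0, 4, 2, 0, 2, 4, 2, 4]),
  (1948, [0, 4, 2, 0, 2, 4, 3, 4]),
  (1951, [0, 4, 2, 0, 4, 2, 0, 4]),
  (1954, [0, 4, 2, 0, 4, 2, 1, 4]),
  (1957, [0, 4, 2, 0, 4, 2, 2, 0]),
  (1958, [0, 4, 2, 0, 4, 2, 2, 1]),
  (1959, [0, 4, 2, 0, 4, 2, 2, 4]),
  (1962, [0, 4, 2, 0, 4, 2, 4, 2]),
  (1976, [0, 4, 2, 1, 2, 4, 2, 4]),
  (1979, [0, 4, 2, 1, 2, 4, 3, 4]),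
  (1982, [0, 4, 2, 1, 4, 2, 2, 4]),
  (1985, [0, 4, 2, 1, 4, 2, 4, 2]),
  (1993, [0, 4, 2, 2, 0, 2, 0, 2]),
  (1994, [0, 4, 2, 2, 0, 2, 0, 3]),
  (1995, [0, 4, 2, 2, 0, 2, 0, 4]),
  (1998, [0, 4, 2, 2, 0, 2, 1, 2]),
  (1999, [0, 4, 2, 2, 0, 2, 1, 3]),
  (2000, [0, 4, 2, 2, 0, 2, 1, 4]),
  (2002, [0, 4, 2, 2, 0, 2, 2, 0]),
  (2003, [0, 4, 2, 2, 0, 2, 2, 1]),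
  (2004, [0, 4, 2, 2, 0, 2, 2, 4]),
  (2006, [0, 4, 2, 2, 0, 2, 4, 2]),
  (2007, [0, 4, 2, 2, 0, 2, 4, 3]),
  (2013, [0, 4, 2, 2, 0, 4, 2, 0]),
  (2014, [0, 4, 2, 2, 0, 4, 2, 1]),
  (2015, [0, 4, 2, 2, 0, 4, 2, 4]),
  (2018, [0, 4, 2, 2, 0, 4, 3, 4]),
  (2025, [0, 4, 2, 2, 1, 2, 2, 4]),
  (2027, [0, 4, 2, 2, 1, 2, 4, 2]),
  (2028, [0, 4, 2, 2, 1, 2, 4, 3]),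
  (2034, [0, 4, 2, 2, 1, 4, 2, 4]),
  (2037, [0, 4, 2, 2, 1, 4, 3, 4]),
  (2044, [0, 4, 2, 2, 2, 0, 2, 0]),
  (2045, [0, 4, 2, 2, 2, 0, 2, 1]),
  (2046, [0, 4, 2, 2, 2, 0, 2, 4]),
  (2048, [0, 4, 2, 2, 2, 0, 3, 0]),
  (2049, [0, 4, 2, 2, 2, 0, 3, 1]),
  (2050, [0, 4, 2, 2, 2, 0, 3, 4]),
  (2052, [0, 4, 2, 2, 2, 0, 4, 2]),
  (2053, [0, 4, 2, 2, 2, 0, 4, 3]),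
  (2057, [0, 4, 2, 2, 2, 1, 2, 4]),
  (2059, [0, 4, 2, 2, 2, 1, 3, 4]),
  (2061, [0, 4, 2, 2, 2, 1, 4, 2]),
  (2062, [0, 4, 2, 2, 2, 1, 4, 3]),
  (2066, [0, 4, 2, 2, 2, 4, 2, 4]),
  (2069, [0, 4, 2, 2, 2, 4, 3, 4]),
  (2089, [0, 4, 2, 2, 4, 2, 0, 2]),
  (2090, [0, 4, 2, 2, 4, 2, 0, 3]),
  (2091, [0, 4, 2, 2, 4, 2, 0, 4]),
  (2094, [0, 4, 2, 2, 4, 2, 1, 2]),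
  (2095, [0, 4, 2, 2, 4, 2, 1, 3]),
  (2096, [0, 4, 2, 2, 4, 2, 1, 4]),
  (2099, [0, 4, 2, 2, 4, 2, 4, 2]),
  (2100, [0, 4, 2, 2, 4, 2, 4, 3]),
  (2115, [0, 4, 2, 2, 4, 3, 3, 4]),
  (2118, [0, 4, 2, 2, 4, 3, 4, 2]),
  (2119, [0, 4, 2, 2, 4, 3, 4, 3]),
  (2174, [0, 4, 2, 4, 2, 0, 2, 0]),
  (2175, [0, 4, 2, 4, 2, 0, 2, 1]),
  (2176, [0, 4, 2, 4, 2, 0, 2, 2]),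
  (2177, [0, 4, 2, 4, 2, 0, 2, 4]),
  (2180, [0, 4, 2, 4, 2, 0, 3, 4]),
  (2183, [0, 4, 2, 4, 2, 0, 4, 2]),
  (2188, [0, 4, 2, 4, 2, 1, 2, 2]),
  (2189, [0, 4, 2, 4, 2, 1, 2, 4]),
  (2192, [0, 4, 2, 4, 2, 1, 3, 4]),
  (2195, [0, 4, 2, 4, 2, 1, 4, 2]),
  (2200, [0, 4, 2, 4, 2, 2, 0, 3]),
  (2201, [0, 4, 2, 4, 2, 2, 0, 4]),
  (2204, [0, 4, 2, 4, 2, 2, 1, 3]),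
  (2205, [0, 4, 2, 4, 2, 2, 1, 4]),
  (2208, [0, 4, 2, 4, 2, 2, 2, 0]),
  (2209, [0, 4, 2, 4, 2, 2, 2, 1]),
  (2210, [0, 4, 2, 4, 2, 2, 2, 4]),
  (2213, [0, 4, 2, 4, 2, 2, 4, 2]),
  (2214, [0, 4, 2, 4, 2, 2, 4, 3]),
  (2225, [0, 4, 2, 4, 2, 4, 2, 0]),
  (2226, [0, 4, 2, 4, 2, 4, 2, 1]),
  (2227, [0, 4, 2, 4, 2, 4, 2, 2]),
  (2228, [0, 4, 2, 4, 2, 4, 2, 4]),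
  (2231, [0, 4, 2, 4, 2, 4, 3, 3]),
  (2262, [0, 4, 2, 4, 3, 3, 0, 4]),
  (2265, [0, 4, 2, 4, 3, 3, 1, 4]),
  (2268, [0, 4, 2, 4, 3, 3, 4, 3]),
  (2277, [0, 4, 2, 4, 3, 4, 3, 0]),
  (2278, [0, 4, 2, 4, 3, 4, 3, 1]),
  (2279, [0, 4, 2, 4, 3, 4, 3, 3]),
  (2359, [0, 4, 3, 0, 4, 3, 3, 0]),
  (2360, [0, 4, 3, 0, 4, 3, 3, 1]),
  (2361, [0, 4, 3, 0, 4, 3, 3, 4]),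
  (2376, [0, 4, 3, 1, 4, 3, 3, 4]),
  (2379, [0, 4, 3, 1, 4, 3, 4, 3]),
  (2386, [0, 4, 3, 3, 0, 3, 0, 2]),
  (2387, [0, 4, 3, 3, 0, 3, 0, 3]),
  (2388, [0, 4, 3, 3, 0, 3, 0, 4]),
  (2391, [0, 4, 3, 3, 0, 3, 1, 2]),
  (2392, [0, 4, 3, 3, 0, 3, 1, 3]),
  (2393, [0, 4, 3, 3, 0, 3, 1, 4]),
  (2395, [0, 4, 3, 3, 0, 3, 4, 3]),
  (2399, [0, 4, 3, 3, 0, 4, 3, 0]),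
  (2400, [0, 4, 3, 3, 0, 4, 3, 1]),
  (2401, [0, 4, 3, 3, 0, 4, 3, 4]),
  (2408, [0, 4, 3, 3, 1, 3, 4, 3]),
  (2412, [0, 4, 3, 3, 1, 4, 3, 4]),
  (2423, [0, 4, 3, 3, 4, 2, 4, 2]),
  (2471, [0, 4, 3, 4, 2, 2, 1, 4]),
  (2474, [0, 4, 3, 4, 2, 2, 2, 4]),
  (2477, [0, 4, 3, 4, 2, 2, 4, 2]),
  (2486, [0, 4, 3, 4, 3, 0, 3, 0]),
  (2487, [0, 4, 3, 4, 3, 0, 3, 1]),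
  (2488, [0, 4, 3, 4, 3, 0, 3, 4]),
  (2491, [0, 4, 3, 4, 3, 0, 4, 3]),
  (2496, [0, 4, 3, 4, 3, 1, 3, 4]),
  (2499, [0, 4, 3, 4, 3, 1, 4, 3]),
  (2504, [0, 4, 3, 4, 3, 3, 0, 2]),
  (2505, [0, 4, 3, 4, 3, 3, 0, 4]),
  (2508, [0, 4, 3, 4, 3, 3, 1, 2]),
  (2509, [0, 4, 3, 4, 3, 3, 1, 4]),
  (2512, [0, 4, 3, 4, 3, 3, 4, 2]),
  (2513, [0, 4, 3, 4, 3, 3, 4, 3]),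
  (2524, [0, 4, 3, 4, 3, 4, 2, 2]),
  (2527, [0, 4, 3, 4, 3, 4, 3, 0]),
  (2528, [0, 4, 3, 4, 3, 4, 3, 1]),
  (2529, [0, 4, 3, 4, 3, 4, 3, 3]),
  (2530, [0, 4, 3, 4, 3, 4, 3, 4]),
  (2636, [1, 4, 2, 2, 4, 2, 4, 2]),
  (2637, [1, 4, 2, 2, 4, 2, 4, 3]),
  (2644, [1, 4, 2, 2, 4, 3, 3, 4]),
  (2647, [1, 4, 2, 2, 4, 3, 4, 3]),
  (2661, [1, 4, 2, 4, 2, 2, 2, 4]),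
  (2664, [1, 4, 2, 4, 2, 2, 4, 2]),
  (2665, [1, 4, 2, 4, 2, 2, 4, 3]),
  (2672, [1, 4, 2, 4, 2, 4, 2, 2]),
  (2673, [1, 4, 2, 4, 2, 4, 2, 4]),
  (2690, [1, 4, 2, 4, 3, 3, 4, 3]),
  (2706, [1, 4, 3, 3, 4, 2, 4, 2]),
  (2720, [1, 4, 3, 4, 2, 2, 2, 4]),
  (2723, [1, 4, 3, 4, 2, 2, 4, 2]),
  (2728, [1, 4, 3, 4, 3, 3, 4, 2]),
  (2729, [1, 4, 3, 4, 3, 3, 4, 3]),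
  (2738, [1, 4, 3, 4, 3, 4, 3, 3]),
  (2739, [1, 4, 3, 4, 3, 4, 3, 4]),
  (2789, [4, 2, 0, 4, 2, 2, 0, 2]),
  (2790, [4, 2, 0, 4, 2, 2, 0, 3]),
  (2791, [4, 2, 0, 4, 2, 2, 0, 4]),
  (2794, [4, 2, 0, 4, 2, 2, 1, 2]),
  (2795, [4, 2, 0, 4, 2, 2, 1, 3]),
  (2796, [4, 2, 0, 4, 2, 2, 1, 4]),
  (2799, [4, 2, 0, 4, 2, 2, 4, 2]),
  (2800, [4, 2, 0, 4, 2, 2, 4, 3]),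
  (2809, [4, 2, 0, 4, 2, 4, 2, 0]),
  (2810, [4, 2, 0, 4, 2, 4, 2, 1]),
  (2811, [4, 2, 0, 4, 2, 4, 2, 4]),
  (2898, [4, 2, 1, 4, 2, 2, 4, 2]),
  (2899, [4, 2, 1, 4, 2, 2, 4, 3]),
  (2904, [4, 2, 1, 4, 2, 4, 2, 4]),
  (2926, [4, 2, 2, 0, 2, 0, 2, 0]),
  (2927, [4, 2, 2, 0, 2, 0, 2, 1]),
  (2928, [4, 2, 2, 0, 2, 0, 2, 4]),
  (2930, [4, 2, 2, 0, 2, 0, 3, 0]),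
  (2931, [4, 2, 2, 0, 2, 0, 3, 1]),
  (2932, [4, 2, 2, 0, 2, 0, 3, 4]),
  (2934, [4, 2, 2, 0, 2, 0, 4, 2]),
  (2935, [4, 2, 2, 0, 2, 0, 4, 3]),
  (2939, [4, 2, 2, 0, 2, 1, 2, 4]),
  (2941, [4, 2, 2, 0, 2, 1, 3, 4]),
  (2943, [4, 2, 2, 0, 2, 1, 4, 2]),
  (2944, [4, 2, 2, 0, 2, 1, 4, 3]),
  (2948, [4, 2, 2, 0, 2, 2, 0, 4]),
  (2950, [4, 2, 2, 0, 2, 2, 1, 4]),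
  (2957, [4, 2, 2, 0, 2, 4, 2, 0]),
  (2958, [4, 2, 2, 0, 2, 4, 2, 1]),
  (2959, [4, 2, 2, 0, 2, 4, 2, 2]),
  (2962, [4, 2, 2, 0, 2, 4, 3, 3]),
  (2963, [4, 2, 2, 0, 2, 4, 3, 4]),
  (2983, [4, 2, 2, 0, 3, 4, 2, 2]),
  (2986, [4, 2, 2, 0, 3, 4, 3, 3]),
  (2995, [4, 2, 2, 0, 4, 2, 0, 2]),
  (2996, [4, 2, 2, 0, 4, 2, 0, 3]),
  (2997, [4, 2, 2, 0, 4, 2, 0, 4]),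
  (3000, [4, 2, 2, 0, 4, 2, 1, 2]),
  (3001, [4, 2, 2, 0, 4, 2, 1, 3]),
  (3002, [4, 2, 2, 0, 4, 2, 1, 4]),
  (3005, [4, 2, 2, 0, 4, 2, 4, 2]),
  (3006, [4, 2, 2, 0, 4, 2, 4, 3]),
  (3043, [4, 2, 2, 1, 2, 4, 2, 2]),
  (3046, [4, 2, 2, 1, 2, 4, 3, 3]),
  (3047, [4, 2, 2, 1, 2, 4, 3, 4]),
  (3056, [4, 2, 2, 1, 3, 4, 2, 2]),
  (3059, [4, 2, 2, 1, 3, 4, 3, 3]),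
  (3066, [4, 2, 2, 1, 4, 2, 4, 2]),
  (3067, [4, 2, 2, 1, 4, 2, 4, 3]),
  (3083, [4, 2, 2, 2, 0, 2, 0, 2]),
  (3084, [4, 2, 2, 2, 0, 2, 0, 3]),
  (3085, [4, 2, 2, 2, 0, 2, 0, 4]),
  (3087, [4, 2, 2, 2, 0, 2, 1, 2]),
  (3088, [4, 2, 2, 2, 0, 2, 1, 3]),
  (3089, [4, 2, 2, 2, 0, 2, 1, 4]),
  (3091, [4, 2, 2, 2, 0, 2, 4, 2]),
  (3097, [4, 2, 2, 2, 0, 3, 0, 2]),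
  (3098, [4, 2, 2, 2, 0, 3, 0, 3]),
  (3099, [4, 2, 2, 2, 0, 3, 0, 4]),
  (3101, [4, 2, 2, 2, 0, 3, 1, 2]),
  (3102, [4, 2, 2, 2, 0, 3, 1, 3]),
  (3103, [4, 2, 2, 2, 0, 3, 1, 4]),
  (3105, [4, 2, 2, 2, 0, 3, 4, 3]),
  (3111, [4, 2, 2, 2, 0, 4, 2, 0]),
  (3112, [4, 2, 2, 2, 0, 4, 2, 1]),
  (3113, [4, 2, 2, 2, 0, 4, 2, 4]),
  (3116, [4, 2, 2, 2, 0, 4, 3, 0]),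
  (3117, [4, 2, 2, 2, 0, 4, 3, 1]),
  (3118, [4, 2, 2, 2, 0, 4, 3, 4]),
  (3129, [4, 2, 2, 2, 1, 2, 4, 2]),
  (3133, [4, 2, 2, 2, 1, 3, 4, 3]),
  (3137, [4, 2, 2, 2, 1, 4, 2, 4]),
  (3140, [4, 2, 2, 2, 1, 4, 3, 4]),
  (3147, [4, 2, 2, 2, 4, 2, 0, 3]),
  (3150, [4, 2, 2, 2, 4, 2, 1, 3]),
  (3153, [4, 2, 2, 2, 4, 2, 4, 3]),
  (3162, [4, 2, 2, 2, 4, 3, 0, 2]),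
  (3165, [4, 2, 2, 2, 4, 3, 1, 2]),
  (3168, [4, 2, 2, 2, 4, 3, 4, 2]),
  (3208, [4, 2, 2, 4, 2, 0, 2, 0]),
  (3209, [4, 2, 2, 4, 2, 0, 2, 1]),
  (3210, [4, 2, 2, 4, 2, 0, 2, 4]),
  (3213, [4, 2, 2, 4, 2, 0, 3, 0]),
  (3214, [4, 2, 2, 4, 2, 0, 3, 1]),
  (3215, [4, 2, 2, 4, 2, 0, 3, 4]),
  (3218, [4, 2, 2, 4, 2, 0, 4, 2]),
  (3219, [4, 2, 2, 4, 2, 0, 4, 3]),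
  (3224, [4, 2, 2, 4, 2, 1, 2, 4]),
  (3227, [4, 2, 2, 4, 2, 1, 3, 4]),
  (3230, [4, 2, 2, 4, 2, 1, 4, 2]),
  (3231, [4, 2, 2, 4, 2, 1, 4, 3]),
  (3236, [4, 2, 2, 4, 2, 4, 2, 4]),
  (3239, [4, 2, 2, 4, 2, 4, 3, 4]),
  (3283, [4, 2, 2, 4, 3, 4, 2, 2]),
  (3286, [4, 2, 2, 4, 3, 4, 3, 3]),
  (3378, [4, 2, 4, 2, 0, 2, 0, 3]),
  (3379, [4, 2, 4, 2, 0, 2, 0, 4]),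
  (3382, [4, 2, 4, 2, 0, 2, 1, 3]),
  (3383, [4, 2, 4, 2, 0, 2, 1, 4]),
  (3386, [4, 2, 4, 2, 0, 2, 2, 0]),
  (3387, [4, 2, 4, 2, 0, 2, 2, 1]),
  (3388, [4, 2, 4, 2, 0, 2, 2, 4]),
  (3391, [4, 2, 4, 2, 0, 2, 4, 3]),
  (3404, [4, 2, 4, 2, 0, 4, 2, 0]),
  (3405, [4, 2, 4, 2, 0, 4, 2, 1]),
  (3406, [4, 2, 4, 2, 0, 4, 2, 2]),
  (3417, [4, 2, 4, 2, 1, 2, 2, 4]),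
  (3420, [4, 2, 4, 2, 1, 2, 4, 3]),
  (3428, [4, 2, 4, 2, 1, 4, 2, 2]),
  (3439, [4, 2, 4, 2, 2, 0, 3, 0]),
  (3440, [4, 2, 4, 2, 2, 0, 3, 1]),
  (3441, [4, 2, 4, 2, 2, 0, 3, 3]),
  (3444, [4, 2, 4, 2, 2, 0, 4, 3]),
  (3449, [4, 2, 4, 2, 2, 1, 3, 3]),
  (3452, [4, 2, 4, 2, 2, 1, 4, 3]),
  (3457, [4, 2, 4, 2, 2, 2, 0, 2]),
  (3458, [4, 2, 4, 2, 2, 2, 0, 4]),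
  (3461, [4, 2, 4, 2, 2, 2, 1, 2]),
  (3462, [4, 2, 4, 2, 2, 2, 1, 4]),
  (3465, [4, 2, 4, 2, 2, 2, 4, 3]),
  (3476, [4, 2, 4, 2, 2, 4, 2, 0]),
  (3477, [4, 2, 4, 2, 2, 4, 2, 1]),
  (3478, [4, 2, 4, 2, 2, 4, 2, 2]),
  (3479, [4, 2, 4, 2, 2, 4, 2, 4]),
  (3482, [4, 2, 4, 2, 2, 4, 3, 3]),
  (3513, [4, 2, 4, 2, 4, 2, 0, 3]),
  (3516, [4, 2, 4, 2, 4, 2, 1, 3]),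
  (3519, [4, 2, 4, 2, 4, 2, 2, 0]),
  (3520, [4, 2, 4, 2, 4, 2, 2, 1]),
  (3521, [4, 2, 4, 2, 4, 2, 2, 2]),
  (3522, [4, 2, 4, 2, 4, 2, 2, 4]),
  (3525, [4, 2, 4, 2, 4, 2, 4, 2]),
  (3526, [4, 2, 4, 2, 4, 2, 4, 3]),
  (3624, [4, 2, 4, 3, 3, 0, 4, 3]),
  (3629, [4, 2, 4, 3, 3, 1, 4, 3]),
  (3634, [4, 2, 4, 3, 3, 4, 3, 0]),
  (3635, [4, 2, 4, 3, 3, 4, 3, 1]),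
  (3636, [4, 2, 4, 3, 3, 4, 3, 4]),
  (3660, [4, 2, 4, 3, 4, 3, 3, 0]),
  (3661, [4, 2, 4, 3, 4, 3, 3, 1]),
  (3662, [4, 2, 4, 3, 4, 3, 3, 4]),
  (3834, [4, 3, 0, 4, 3, 3, 0, 2]),
  (3835, [4, 3, 0, 4, 3, 3, 0, 3]),
  (3836, [4, 3, 0, 4, 3, 3, 0, 4]),
  (3839, [4, 3, 0, 4, 3, 3, 1, 2]),
  (3840, [4, 3, 0, 4, 3, 3, 1, 3]),
  (3841, [4, 3, 0, 4, 3, 3, 1, 4]),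
  (3844, [4, 3, 0, 4, 3, 3, 4, 2]),
  (3845, [4, 3, 0, 4, 3, 3, 4, 3]),
  (3914, [4, 3, 1, 4, 3, 3, 4, 2]),
  (3915, [4, 3, 1, 4, 3, 3, 4, 3]),
  (3920, [4, 3, 1, 4, 3, 4, 3, 4]),
  (3942, [4, 3, 3, 0, 3, 0, 2, 0]),
  (3943, [4, 3, 3, 0, 3, 0, 2, 1]),
  (3945, [4, 3, 3, 0, 3, 0, 3, 0]),
  (3946, [4, 3, 3, 0, 3, 0, 3, 1]),
  (3947, [4, 3, 3, 0, 3, 0, 3, 4]),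
  (3949, [4, 3, 3, 0, 3, 0, 4, 3]),
  (3953, [4, 3, 3, 0, 3, 1, 2, 4]),
  (3955, [4, 3, 3, 0, 3, 1, 3, 4]),
  (3957, [4, 3, 3, 0, 3, 1, 4, 3]),
  (3961, [4, 3, 3, 0, 3, 4, 3, 0]),
  (3962, [4, 3, 3, 0, 3, 4, 3, 1]),
  (3963, [4, 3, 3, 0, 3, 4, 3, 3]),
  (3983, [4, 3, 3, 0, 4, 3, 0, 3]),
  (3984, [4, 3, 3, 0, 4, 3, 0, 4]),
  (3987, [4, 3, 3, 0, 4, 3, 1, 2]),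
  (3988, [4, 3, 3, 0, 4, 3, 1, 3]),
  (3989, [4, 3, 3, 0, 4, 3, 1, 4]),
  (3992, [4, 3, 3, 0, 4, 3, 4, 3]),
  (4030, [4, 3, 3, 1, 4, 3, 4, 3]),
  (4047, [4, 3, 3, 4, 2, 4, 2, 2]),
  (4120, [4, 3, 4, 2, 2, 1, 4, 2]),
  (4125, [4, 3, 4, 2, 2, 2, 4, 2]),
  (4136, [4, 3, 4, 2, 2, 4, 2, 2]),
  (4171, [4, 3, 4, 3, 0, 3, 0, 4]),
  (4174, [4, 3, 4, 3, 0, 3, 1, 2]),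
  (4175, [4, 3, 4, 3, 0, 3, 1, 4]),
  (4186, [4, 3, 4, 3, 0, 4, 3, 0]),
  (4187, [4, 3, 4, 3, 0, 4, 3, 1]),
  (4202, [4, 3, 4, 3, 1, 4, 3, 3]),
  (4213, [4, 3, 4, 3, 3, 0, 2, 2]),
  (4220, [4, 3, 4, 3, 3, 1, 2, 2]),
  (4227, [4, 3, 4, 3, 3, 4, 2, 2]),
  (4230, [4, 3, 4, 3, 3, 4, 3, 0]),
  (4231, [4, 3, 4, 3, 3, 4, 3, 1]),
  (4232, [4, 3, 4, 3, 3, 4, 3, 3]),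
  (4263, [4, 3, 4, 3, 4, 2, 2, 2]),
  (4270, [4, 3, 4, 3, 4, 3, 0, 2]),
  (4273, [4, 3, 4, 3, 4, 3, 1, 2]),
  (4278, [4, 3, 4, 3, 4, 3, 4, 2]),
  (4494, [0, 0, 4, 2, 2, 4, 2, 4, 2, 4]),
  (4497, [0, 0, 4, 2, 2, 4, 2, 4, 3, 4]),
  (4516, [4, 2, 2, 1, 3, 4, 3, 4, 3]),
  (4545, [4, 3, 4, 3, 3, 4, 2, 2, 0]),
  (4552, [0, 0, 4, 2, 4, 2, 2, 4, 2, 2]),
  (4555, [4, 3, 4, 2, 2, 2, 4, 2, 1]),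
  (4572, [0, 0, 4, 2, 4, 2, 4, 2, 4, 3]),
  (4646, [4, 2, 2, 1, 3, 4, 2, 4, 2]),
  (4674, [4, 2, 4, 2, 2, 4, 2, 1, 3]),
  (4696, [4, 2, 4, 2, 2, 2, 4, 3, 1]),
  (4699, [0, 0, 4, 3, 4, 3, 3, 4, 3, 3]),
  (4718, [0, 0, 4, 3, 4, 3, 4, 3, 4, 2]),
  (4788, [0, 4, 2, 0, 4, 2, 2, 0, 2]),
  (4789, [0, 4, 2, 0, 4, 2, 2, 0, 3]),
  (4790, [0, 4, 2, 0, 4, 2, 2, 0, 4]),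
  (4793, [0, 4, 2, 0, 4, 2, 2, 1, 2]),
  (4794, [0, 4, 2, 0, 4, 2, 2, 1, 3]),
  (4795, [0, 4, 2, 0, 4, 2, 2, 1, 4]),
  (4798, [0, 4, 2, 0, 4, 2, 2, 4, 2]),
  (4807, [0, 4, 2, 0, 4, 2, 4, 2, 0]),
  (4808, [0, 4, 2, 0, 4, 2, 4, 2, 1]),
  (4809, [0, 4, 2, 0, 4, 2, 4, 2, 4]),
  (4848, [0, 4, 2, 1, 4, 2, 2, 4, 2]),
  (4853, [0, 4, 2, 1, 4, 2, 4, 2, 4]),
  (4870, [0, 4, 2, 2, 0, 2, 0, 2, 0]),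
  (4871, [0, 4, 2, 2, 0, 2, 0, 2, 1]),
  (4872, [0, 4, 2, 2, 0, 2, 0, 2, 4]),
  (4875, [0, 4, 2, 2, 0, 2, 0, 3, 0]),
  (4876, [0, 4, 2, 2, 0, 2, 0, 3, 1]),
  (4877, [0, 4, 2, 2, 0, 2, 0, 3, 4]),
  (4880, [0, 4, 2, 2, 0, 2, 0, 4, 2]),
  (4881, [0, 4, 2, 2, 0, 2, 0, 4, 3]),
  (4886, [0, 4, 2, 2, 0, 2, 1, 2, 4]),
  (4888, [0, 4, 2, 2, 0, 2, 1, 3, 4]),
  (4890, [0, 4, 2, 2, 0, 2, 1, 4, 2]),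
  (4891, [0, 4, 2, 2, 0, 2, 1, 4, 3]),
  (4895, [0, 4, 2, 2, 0, 2, 2, 0, 4]),
  (4898, [0, 4, 2, 2, 0, 2, 2, 1, 4]),
  (4903, [0, 4, 2, 2, 0, 2, 4, 2, 0]),
  (4904, [0, 4, 2, 2, 0, 2, 4, 2, 1]),
  (4905, [0, 4, 2, 2, 0, 2, 4, 2, 2]),
  (4908, [0, 4, 2, 2, 0, 2, 4, 3, 3]),
  (4909, [0, 4, 2, 2, 0, 2, 4, 3, 4]),
  (4922, [0, 4, 2, 2, 0, 4, 2, 0, 2]),
  (4923, [0, 4, 2, 2, 0, 4, 2, 0, 3]),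
  (4924, [0, 4, 2, 2, 0, 4, 2, 0, 4]),
  (4927, [0, 4, 2, 2, 0, 4, 2, 1, 2]),
  (4928, [0, 4, 2, 2, 0, 4, 2, 1, 3]),
  (4929, [0, 4, 2, 2, 0, 4, 2, 1, 4]),
  (4932, [0, 4, 2, 2, 0, 4, 2, 4, 2]),
  (4933, [0, 4, 2, 2, 0, 4, 2, 4, 3]),
  (4957, [0, 4, 2, 2, 1, 2, 4, 2, 2]),
  (4960, [0, 4, 2, 2, 1, 2, 4, 3, 3]),
  (4961, [0, 4, 2, 2, 1, 2, 4, 3, 4]),
  (4970, [0, 4, 2, 2, 1, 4, 2, 4, 2]),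
  (4971, [0, 4, 2, 2, 1, 4, 2, 4, 3]),
  (4986, [0, 4, 2, 2, 2, 0, 2, 0, 2]),
  (4987, [0, 4, 2, 2, 2, 0, 2, 0, 3]),
  (4988, [0, 4, 2, 2, 2, 0, 2, 0, 4]),
  (4991, [0, 4, 2, 2, 2, 0, 2, 1, 2]),
  (4992, [0, 4, 2, 2, 2, 0, 2, 1, 3]),
  (4993, [0, 4, 2, 2, 2, 0, 2, 1, 4]),
  (4995, [0, 4, 2, 2, 2, 0, 2, 4, 2]),
  (4999, [0, 4, 2, 2, 2, 0, 3, 0, 2]),
  (5000, [0, 4, 2, 2, 2, 0, 3, 0, 3]),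
  (5001, [0, 4, 2, 2, 2, 0, 3, 0, 4]),
  (5004, [0, 4, 2, 2, 2, 0, 3, 1, 2]),
  (5005, [0, 4, 2, 2, 2, 0, 3, 1, 3]),
  (5006, [0, 4, 2, 2, 2, 0, 3, 1, 4]),
  (5008, [0, 4, 2, 2, 2, 0, 3, 4, 3]),
  (5012, [0, 4, 2, 2, 2, 0, 4, 2, 0]),
  (5013, [0, 4, 2, 2, 2, 0, 4, 2, 1]),
  (5014, [0, 4, 2, 2, 2, 0, 4, 2, 4]),
  (5017, [0, 4, 2, 2, 2, 0, 4, 3, 0]),
  (5018, [0, 4, 2, 2, 2, 0, 4, 3, 1]),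
  (5019, [0, 4, 2, 2, 2, 0, 4, 3, 4]),
  (5026, [0, 4, 2, 2, 2, 1, 2, 4, 2]),
  (5030, [0, 4, 2, 2, 2, 1, 3, 4, 3]),
  (5034, [0, 4, 2, 2, 2, 1, 4, 2, 4]),
  (5037, [0, 4, 2, 2, 2, 1, 4, 3, 4]),
  (5044, [0, 4, 2, 2, 2, 4, 2, 4, 3]),
  (5054, [0, 4, 2, 2, 2, 4, 3, 4, 2]),
  (5108, [0, 4, 2, 2, 4, 2, 0, 2, 0]),
  (5109, [0, 4, 2, 2, 4, 2, 0, 2, 1]),
  (5110, [0, 4, 2, 2, 4, 2, 0, 2, 4]),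
  (5113, [0, 4, 2, 2, 4, 2, 0, 3, 0]),
  (5114, [0, 4, 2, 2, 4, 2, 0, 3, 1]),
  (5115, [0, 4, 2, 2, 4, 2, 0, 3, 4]),
  (5118, [0, 4, 2, 2, 4, 2, 0, 4, 2]),
  (5119, [0, 4, 2, 2, 4, 2, 0, 4, 3]),
  (5124, [0, 4, 2, 2, 4, 2, 1, 2, 4]),
  (5127, [0, 4, 2, 2, 4, 2, 1, 3, 4]),
  (5130, [0, 4, 2, 2, 4, 2, 1, 4, 2]),
  (5131, [0, 4, 2, 2, 4, 2, 1, 4, 3]),
  (5136, [0, 4, 2, 2, 4, 2, 4, 2, 4]),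
  (5139, [0, 4, 2, 2, 4, 2, 4, 3, 4]),
  (5174, [0, 4, 2, 2, 4, 3, 4, 2, 2]),
  (5177, [0, 4, 2, 2, 4, 3, 4, 3, 3]),
  (5302, [0, 4, 2, 4, 2, 0, 2, 0, 3]),
  (5303, [0, 4, 2, 4, 2, 0, 2, 0, 4]),
  (5306, [0, 4, 2, 4, 2, 0, 2, 1, 3]),
  (5307, [0, 4, 2, 4, 2, 0, 2, 1, 4]),
  (5310, [0, 4, 2, 4, 2, 0, 2, 2, 0]),
  (5311, [0, 4, 2, 4, 2, 0, 2, 2, 1]),
  (5312, [0, 4, 2, 4, 2, 0, 2, 2, 4]),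
  (5315, [0, 4, 2, 4, 2, 0, 2, 4, 3]),
  (5326, [0, 4, 2, 4, 2, 0, 4, 2, 0]),
  (5327, [0, 4, 2, 4, 2, 0, 4, 2, 1]),
  (5328, [0, 4, 2, 4, 2, 0, 4, 2, 2]),
  (5339, [0, 4, 2, 4, 2, 1, 2, 2, 4]),
  (5342, [0, 4, 2, 4, 2, 1, 2, 4, 3]),
  (5349, [0, 4, 2, 4, 2, 1, 4, 2, 2]),
  (5360, [0, 4, 2, 4, 2, 2, 0, 3, 0]),
  (5361, [0, 4, 2, 4, 2, 2, 0, 3, 1]),
  (5362, [0, 4, 2, 4, 2, 2, 0, 3, 3]),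
  (5365, [0, 4, 2, 4, 2, 2, 0, 4, 3]),
  (5370, [0, 4, 2, 4, 2, 2, 1, 3, 3]),
  (5373, [0, 4, 2, 4, 2, 2, 1, 4, 3]),
  (5378, [0, 4, 2, 4, 2, 2, 2, 0, 2]),
  (5379, [0, 4, 2, 4, 2, 2, 2, 0, 4]),
  (5382, [0, 4, 2, 4, 2, 2, 2, 1, 2]),
  (5383, [0, 4, 2, 4, 2, 2, 2, 1, 4]),
  (5386, [0, 4, 2, 4, 2, 2, 2, 4, 3]),
  (5395, [0, 4, 2, 4, 2, 2, 4, 2, 0]),
  (5396, [0, 4, 2, 4, 2, 2, 4, 2, 1]),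
  (5397, [0, 4, 2, 4, 2, 2, 4, 2, 2]),
  (5398, [0, 4, 2, 4, 2, 2, 4, 2, 4]),
  (5401, [0, 4, 2, 4, 2, 2, 4, 3, 3]),
  (5436, [0, 4, 2, 4, 2, 4, 2, 2, 0]),
  (5437, [0, 4, 2, 4, 2, 4, 2, 2, 1]),
  (5438, [0, 4, 2, 4, 2, 4, 2, 2, 2]),
  (5439, [0, 4, 2, 4, 2, 4, 2, 2, 4]),
  (5442, [0, 4, 2, 4, 2, 4, 2, 4, 2]),
  (5443, [0, 4, 2, 4, 2, 4, 2, 4, 3]),
  (5545, [0, 4, 2, 4, 3, 3, 0, 4, 3]),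
  (5550, [0, 4, 2, 4, 3, 3, 1, 4, 3]),
  (5555, [0, 4, 2, 4, 3, 3, 4, 3, 0]),
  (5556, [0, 4, 2, 4, 3, 3, 4, 3, 1]),
  (5557, [0, 4, 2, 4, 3, 3, 4, 3, 4]),
  (5579, [0, 4, 2, 4, 3, 4, 3, 3, 0]),
  (5580, [0, 4, 2, 4, 3, 4, 3, 3, 1]),
  (5581, [0, 4, 2, 4, 3, 4, 3, 3, 4]),
  (5785, [0, 4, 3, 0, 4, 3, 3, 0, 2]),
  (5786, [0, 4, 3, 0, 4, 3, 3, 0, 3]),
  (5787, [0, 4, 3, 0, 4, 3, 3, 0, 4]),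
  (5790, [0, 4, 3, 0, 4, 3, 3, 1, 2]),
  (5791, [0, 4, 3, 0, 4, 3, 3, 1, 3]),
  (5792, [0, 4, 3, 0, 4, 3, 3, 1, 4]),
  (5795, [0, 4, 3, 0, 4, 3, 3, 4, 3]),
  (5832, [0, 4, 3, 1, 4, 3, 3, 4, 3]),
  (5837, [0, 4, 3, 1, 4, 3, 4, 3, 4]),
  (5852, [0, 4, 3, 3, 0, 3, 0, 2, 0]),
  (5853, [0, 4, 3, 3, 0, 3, 0, 2, 1]),
  (5856, [0, 4, 3, 3, 0, 3, 0, 3, 0]),
  (5857, [0, 4, 3, 3, 0, 3, 0, 3, 1]),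
  (5858, [0, 4, 3, 3, 0, 3, 0, 3, 4]),
  (5861, [0, 4, 3, 3, 0, 3, 0, 4, 3]),
  (5866, [0, 4, 3, 3, 0, 3, 1, 2, 4]),
  (5868, [0, 4, 3, 3, 0, 3, 1, 3, 4]),
  (5870, [0, 4, 3, 3, 0, 3, 1, 4, 3]),
  (5874, [0, 4, 3, 3, 0, 3, 4, 3, 0]),
  (5875, [0, 4, 3, 3, 0, 3, 4, 3, 1]),
  (5876, [0, 4, 3, 3, 0, 3, 4, 3, 3]),
  (5889, [0, 4, 3, 3, 0, 4, 3, 0, 3]),
  (5890, [0, 4, 3, 3, 0, 4, 3, 0, 4]),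
  (5893, [0, 4, 3, 3, 0, 4, 3, 1, 2]),
  (5894, [0, 4, 3, 3, 0, 4, 3, 1, 3]),
  (5895, [0, 4, 3, 3, 0, 4, 3, 1, 4]),
  (5898, [0, 4, 3, 3, 0, 4, 3, 4, 3]),
  (5925, [0, 4, 3, 3, 1, 4, 3, 4, 3]),
  (5942, [0, 4, 3, 3, 4, 2, 4, 2, 2]),
  (6039, [0, 4, 3, 4, 2, 2, 1, 4, 2]),
  (6044, [0, 4, 3, 4, 2, 2, 2, 4, 2]),
  (6053, [0, 4, 3, 4, 2, 2, 4, 2, 2]),
  (6074, [0, 4, 3, 4, 3, 0, 3, 0, 4]),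
  (6077, [0, 4, 3, 4, 3, 0, 3, 1, 2]),
  (6078, [0, 4, 3, 4, 3, 0, 3, 1, 4]),
  (6089, [0, 4, 3, 4, 3, 0, 4, 3, 0]),
  (6090, [0, 4, 3, 4, 3, 0, 4, 3, 1]),
  (6105, [0, 4, 3, 4, 3, 1, 4, 3, 3]),
  (6116, [0, 4, 3, 4, 3, 3, 0, 2, 2]),
  (6123, [0, 4, 3, 4, 3, 3, 1, 2, 2]),
  (6130, [0, 4, 3, 4, 3, 3, 4, 2, 2]),
  (6133, [0, 4, 3, 4, 3, 3, 4, 3, 0]),
  (6134, [0, 4, 3, 4, 3, 3, 4, 3, 1]),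
  (6135, [0, 4, 3, 4, 3, 3, 4, 3, 3]),
  (6166, [0, 4, 3, 4, 3, 4, 2, 2, 2]),
  (6179, [0, 4, 3, 4, 3, 4, 3, 4, 2]),
  (6459, [1, 4, 2, 2, 4, 2, 4, 2, 4]),
  (6462, [1, 4, 2, 2, 4, 2, 4, 3, 4]),
  (6477, [1, 4, 2, 2, 4, 3, 4, 3, 3]),
  (6503, [1, 4, 2, 4, 2, 2, 2, 4, 3]),
  (6508, [1, 4, 2, 4, 2, 2, 4, 2, 2]),
  (6511, [1, 4, 2, 4, 2, 2, 4, 3, 3]),
  (6528, [1, 4, 2, 4, 2, 4, 2, 4, 3]),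
  (6606, [1, 4, 3, 3, 4, 2, 4, 2, 2]),
  (6632, [1, 4, 3, 4, 2, 2, 2, 4, 2]),
  (6649, [1, 4, 3, 4, 3, 3, 4, 2, 2]),
  (6652, [1, 4, 3, 4, 3, 3, 4, 3, 3]),
  (6671, [1, 4, 3, 4, 3, 4, 3, 4, 2]),
  (6771, [4, 2, 0, 4, 2, 2, 0, 3, 0]),
  (6772, [4, 2, 0, 4, 2, 2, 0, 3, 1]),
  (6773, [4, 2, 0, 4, 2, 2, 0, 3, 3]),
  (6774, [4, 2, 0, 4, 2, 2, 0, 3, 4]),
  (6777, [4, 2, 0, 4, 2, 2, 0, 4, 2]),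
  (6784, [4, 2, 0, 4, 2, 2, 1, 3, 3]),
  (6785, [4, 2, 0, 4, 2, 2, 1, 3, 4]),
  (6788, [4, 2, 0, 4, 2, 2, 1, 4, 2]),
  (6795, [4, 2, 0, 4, 2, 2, 4, 3, 0]),
  (6796, [4, 2, 0, 4, 2, 2, 4, 3, 1]),
  (6797, [4, 2, 0, 4, 2, 2, 4, 3, 4]),
  (6826, [4, 2, 0, 4, 2, 4, 2, 0, 4]),
  (6828, [4, 2, 0, 4, 2, 4, 2, 1, 4]),
  (6830, [4, 2, 0, 4, 2, 4, 2, 4, 2]),
  (7040, [4, 2, 1, 4, 2, 2, 4, 3, 4]),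
  (7053, [4, 2, 1, 4, 2, 4, 2, 4, 2]),
  (7099, [4, 2, 2, 0, 2, 0, 2, 0, 4]),
  (7102, [4, 2, 2, 0, 2, 0, 2, 1, 4]),
  (7107, [4, 2, 2, 0, 2, 0, 3, 0, 2]),
  (7110, [4, 2, 2, 0, 2, 0, 3, 1, 2]),
  (7112, [4, 2, 2, 0, 2, 0, 3, 4, 3]),
  (7116, [4, 2, 2, 0, 2, 0, 4, 2, 0]),
  (7117, [4, 2, 2, 0, 2, 0, 4, 2, 1]),
  (7118, [4, 2, 2, 0, 2, 0, 4, 2, 2]),
  (7121, [4, 2, 2, 0, 2, 0, 4, 3, 3]),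
  (7131, [4, 2, 2, 0, 2, 1, 3, 4, 3]),
  (7135, [4, 2, 2, 0, 2, 1, 4, 2, 2]),
  (7138, [4, 2, 2, 0, 2, 1, 4, 3, 3]),
  (7164, [4, 2, 2, 0, 2, 4, 2, 0, 2]),
  (7167, [4, 2, 2, 0, 2, 4, 2, 1, 2]),
  (7170, [4, 2, 2, 0, 2, 4, 2, 2, 0]),
  (7171, [4, 2, 2, 0, 2, 4, 2, 2, 1]),
  (7172, [4, 2, 2, 0, 2, 4, 2, 2, 2]),
  (7185, [4, 2, 2, 0, 2, 4, 3, 4, 2]),
  (7186, [4, 2, 2, 0, 2, 4, 3, 4, 3]),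
  (7234, [4, 2, 2, 0, 3, 4, 2, 2, 2]),
  (7245, [4, 2, 2, 0, 4, 2, 0, 2, 0]),
  (7246, [4, 2, 2, 0, 4, 2, 0, 2, 1]),
  (7247, [4, 2, 2, 0, 4, 2, 0, 2, 4]),
  (7250, [4, 2, 2, 0, 4, 2, 0, 3, 0]),
  (7251, [4, 2, 2, 0, 4, 2, 0, 3, 1]),
  (7258, [4, 2, 2, 0, 4, 2, 1, 2, 4]),
  (7267, [4, 2, 2, 0, 4, 2, 4, 2, 0]),
  (7268, [4, 2, 2, 0, 4, 2, 4, 2, 1]),
  (7269, [4, 2, 2, 0, 4, 2, 4, 2, 2]),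
  (7372, [4, 2, 2, 1, 2, 4, 2, 2, 2]),
  (7381, [4, 2, 2, 1, 2, 4, 3, 4, 2]),
  (7382, [4, 2, 2, 1, 2, 4, 3, 4, 3]),
  (7397, [4, 2, 2, 1, 3, 4, 2, 2, 2]),
  (7408, [4, 2, 2, 1, 4, 2, 4, 2, 2]),
  (7446, [4, 2, 2, 2, 0, 2, 0, 3, 0]),
  (7447, [4, 2, 2, 2, 0, 2, 0, 3, 1]),
  (7448, [4, 2, 2, 2, 0, 2, 0, 3, 3]),
  (7449, [4, 2, 2, 2, 0, 2, 0, 3, 4]),
  (7451, [4, 2, 2, 2, 0, 2, 0, 4, 2]),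
  (7452, [4, 2, 2, 2, 0, 2, 0, 4, 3]),
  (7457, [4, 2, 2, 2, 0, 2, 1, 3, 3]),
  (7458, [4, 2, 2, 2, 0, 2, 1, 3, 4]),
  (7460, [4, 2, 2, 2, 0, 2, 1, 4, 2]),
  (7461, [4, 2, 2, 2, 0, 2, 1, 4, 3]),
  (7465, [4, 2, 2, 2, 0, 2, 4, 2, 2]),
  (7483, [4, 2, 2, 2, 0, 3, 0, 2, 2]),
  (7484, [4, 2, 2, 2, 0, 3, 0, 2, 4]),
  (7487, [4, 2, 2, 2, 0, 3, 0, 4, 2]),
  (7491, [4, 2, 2, 2, 0, 3, 1, 2, 2]),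
  (7492, [4, 2, 2, 2, 0, 3, 1, 2, 4]),
  (7495, [4, 2, 2, 2, 0, 3, 1, 4, 2]),
  (7499, [4, 2, 2, 2, 0, 3, 4, 3, 3]),
  (7517, [4, 2, 2, 2, 0, 4, 2, 0, 3]),
  (7518, [4, 2, 2, 2, 0, 4, 2, 0, 4]),
  (7521, [4, 2, 2, 2, 0, 4, 2, 1, 3]),
  (7522, [4, 2, 2, 2, 0, 4, 2, 1, 4]),
  (7525, [4, 2, 2, 2, 0, 4, 2, 4, 2]),
  (7526, [4, 2, 2, 2, 0, 4, 2, 4, 3]),
  (7535, [4, 2, 2, 2, 0, 4, 3, 0, 2]),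
  (7538, [4, 2, 2, 2, 0, 4, 3, 1, 2]),
  (7541, [4, 2, 2, 2, 0, 4, 3, 4, 2]),
  (7542, [4, 2, 2, 2, 0, 4, 3, 4, 3]),
  (7575, [4, 2, 2, 2, 1, 2, 4, 2, 2]),
  (7582, [4, 2, 2, 2, 1, 3, 4, 3, 3]),
  (7589, [4, 2, 2, 2, 1, 4, 2, 4, 2]),
  (7590, [4, 2, 2, 2, 1, 4, 2, 4, 3]),
  (7595, [4, 2, 2, 2, 1, 4, 3, 4, 2]),
  (7596, [4, 2, 2, 2, 1, 4, 3, 4, 3]),
  (7609, [4, 2, 2, 2, 4, 2, 0, 3, 3]),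
  (7614, [4, 2, 2, 2, 4, 2, 1, 3, 3]),
  (7619, [4, 2, 2, 2, 4, 2, 4, 3, 0]),
  (7620, [4, 2, 2, 2, 4, 2, 4, 3, 1]),
  (7621, [4, 2, 2, 2, 4, 2, 4, 3, 4]),
  (7651, [4, 2, 2, 2, 4, 3, 4, 2, 4]),
  (7745, [4, 2, 2, 4, 2, 0, 2, 0, 4]),
  (7748, [4, 2, 2, 4, 2, 0, 2, 1, 4]),
  (7751, [4, 2, 2, 4, 2, 0, 2, 4, 2]),
  (7760, [4, 2, 2, 4, 2, 0, 3, 0, 4]),
  (7763, [4, 2, 2, 4, 2, 0, 3, 1, 4]),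
  (7766, [4, 2, 2, 4, 2, 0, 3, 4, 3]),
  (7775, [4, 2, 2, 4, 2, 0, 4, 2, 2]),
  (7778, [4, 2, 2, 4, 2, 0, 4, 3, 3]),
  (7789, [4, 2, 2, 4, 2, 1, 2, 4, 2]),
  (7794, [4, 2, 2, 4, 2, 1, 3, 4, 3]),
  (7799, [4, 2, 2, 4, 2, 1, 4, 2, 2]),
  (7802, [4, 2, 2, 4, 2, 1, 4, 3, 3]),
  (7813, [4, 2, 2, 4, 2, 4, 2, 4, 2]),
  (7824, [4, 2, 2, 4, 2, 4, 3, 4, 3]),
  (7926, [4, 2, 2, 4, 3, 4, 2, 2, 2]),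
  (7927, [4, 2, 2, 4, 3, 4, 2, 2, 4]),
  (7932, [4, 2, 2, 4, 3, 4, 3, 3, 0]),
  (7933, [4, 2, 2, 4, 3, 4, 3, 3, 1]),
  (8180, [4, 2, 4, 2, 0, 2, 0, 3, 0]),
  (8181, [4, 2, 4, 2, 0, 2, 0, 3, 1]),
  (8184, [4, 2, 4, 2, 0, 2, 0, 4, 3]),
  (8191, [4, 2, 4, 2, 0, 2, 1, 4, 3]),
  (8196, [4, 2, 4, 2, 0, 2, 2, 0, 4]),
  (8199, [4, 2, 4, 2, 0, 2, 2, 1, 4]),
  (8202, [4, 2, 4, 2, 0, 2, 2, 4, 2]),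
  (8211, [4, 2, 4, 2, 0, 2, 4, 3, 3]),
  (8292, [4, 2, 4, 2, 1, 2, 2, 4, 2]),
  (8297, [4, 2, 4, 2, 1, 2, 4, 3, 3]),
  (8340, [4, 2, 4, 2, 2, 0, 3, 0, 2]),
  (8343, [4, 2, 4, 2, 2, 0, 3, 1, 2]),
  (8378, [4, 2, 4, 2, 2, 2, 0, 2, 2]),
  (8381, [4, 2, 4, 2, 2, 2, 0, 4, 2]),
  (8386, [4, 2, 4, 2, 2, 2, 1, 2, 2]),
  (8389, [4, 2, 4, 2, 2, 2, 1, 4, 2]),
  (8420, [4, 2, 4, 2, 2, 4, 2, 0, 4]),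
  (8423, [4, 2, 4, 2, 2, 4, 2, 1, 4]),
  (8426, [4, 2, 4, 2, 2, 4, 2, 2, 2]),
  (8427, [4, 2, 4, 2, 2, 4, 2, 2, 4]),
  (8526, [4, 2, 4, 2, 4, 2, 0, 3, 4]),
  (8531, [4, 2, 4, 2, 4, 2, 1, 3, 4]),
  (8536, [4, 2, 4, 2, 4, 2, 2, 0, 4]),
  (8539, [4, 2, 4, 2, 4, 2, 2, 1, 4]),
  (8542, [4, 2, 4, 2, 4, 2, 2, 2, 4]),
  (8555, [4, 2, 4, 2, 4, 2, 4, 2, 2]),
  (8558, [4, 2, 4, 2, 4, 2, 4, 3, 3]),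
  (8810, [4, 2, 4, 3, 3, 0, 4, 3, 3]),
  (8811, [4, 2, 4, 3, 3, 0, 4, 3, 4]),
  (8822, [4, 2, 4, 3, 3, 1, 4, 3, 3]),
  (8823, [4, 2, 4, 3, 3, 1, 4, 3, 4]),
  (8834, [4, 2, 4, 3, 3, 4, 3, 0, 2]),
  (8835, [4, 2, 4, 3, 3, 4, 3, 0, 4]),
  (8838, [4, 2, 4, 3, 3, 4, 3, 1, 2]),
  (8839, [4, 2, 4, 3, 3, 4, 3, 1, 4]),
  (8916, [4, 2, 4, 3, 4, 3, 3, 4, 3]),
  (9403, [4, 3, 0, 4, 3, 3, 0, 2, 0]),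
  (9404, [4, 3, 0, 4, 3, 3, 0, 2, 1]),
  (9405, [4, 3, 0, 4, 3, 3, 0, 2, 2]),
  (9406, [4, 3, 0, 4, 3, 3, 0, 2, 4]),
  (9415, [4, 3, 0, 4, 3, 3, 1, 2, 2]),
  (9416, [4, 3, 0, 4, 3, 3, 1, 2, 4]),
  (9425, [4, 3, 0, 4, 3, 3, 4, 2, 0]),
  (9426, [4, 3, 0, 4, 3, 3, 4, 2, 1]),
  (9427, [4, 3, 0, 4, 3, 3, 4, 2, 4]),
  (9616, [4, 3, 1, 4, 3, 3, 4, 2, 4]),
  (9631, [4, 3, 1, 4, 3, 4, 3, 4, 3]),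
  (9681, [4, 3, 3, 0, 3, 0, 3, 0, 4]),
  (9684, [4, 3, 3, 0, 3, 0, 3, 1, 4]),
  (9689, [4, 3, 3, 0, 3, 0, 4, 3, 0]),
  (9690, [4, 3, 3, 0, 3, 0, 4, 3, 1]),
  (9691, [4, 3, 3, 0, 3, 0, 4, 3, 3]),
  (9698, [4, 3, 3, 0, 3, 1, 2, 4, 2]),
  (9705, [4, 3, 3, 0, 3, 1, 4, 3, 3]),
  (9765, [4, 3, 3, 0, 4, 3, 0, 3, 0]),
  (9766, [4, 3, 3, 0, 4, 3, 0, 3, 1]),
  (9767, [4, 3, 3, 0, 4, 3, 0, 3, 4]),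
  (9776, [4, 3, 3, 0, 4, 3, 1, 3, 4]),
  (9783, [4, 3, 3, 0, 4, 3, 4, 3, 3]),
  (9887, [4, 3, 3, 1, 4, 3, 4, 3, 3]),
  (9928, [4, 3, 3, 4, 2, 4, 2, 2, 0]),
  (9929, [4, 3, 3, 4, 2, 4, 2, 2, 1]),
  (10139, [4, 3, 4, 2, 2, 1, 4, 2, 2]),
  (10140, [4, 3, 4, 2, 2, 1, 4, 2, 4]),
  (10410, [4, 3, 4, 3, 3, 4, 2, 2, 2]),
  (10421, [4, 3, 4, 3, 3, 4, 3, 3, 4]),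
  (10508, [4, 3, 4, 3, 4, 2, 2, 2, 4]),
  (10523, [4, 3, 4, 3, 4, 3, 0, 2, 4]),
  (10528, [4, 3, 4, 3, 4, 3, 1, 2, 4]),
  (10541, [4, 3, 4, 3, 4, 3, 4, 2, 2]),
  (11135, [0, 4, 2, 2, 2, 0, 2, 1, 4, 3]),
  (11142, [0, 4, 2, 2, 2, 0, 3, 1, 4, 2]),
  (11259, [4, 3, 0, 4, 3, 3, 0, 2, 2, 4]),
  (11260, [4, 2, 2, 0, 2, 0, 3, 4, 3, 3]),
  (11307, [4, 2, 4, 2, 1, 2, 4, 3, 3, 4]),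
  (11580, [4, 2, 0, 4, 2, 2, 0, 3, 3, 4]),
  (11587, [4, 2, 4, 2, 4, 2, 4, 2, 2, 2]),
  (11634, [4, 2, 4, 2, 2, 4, 2, 2, 4, 3]),
  (11786, [0, 4, 2, 0, 4, 2, 2, 0, 3, 3]),
  (11789, [0, 4, 2, 0, 4, 2, 2, 0, 4, 2]),
  (11796, [0, 4, 2, 0, 4, 2, 2, 1, 3, 3]),
  (11799, [0, 4, 2, 0, 4, 2, 2, 1, 4, 2]),
  (11832, [0, 4, 2, 0, 4, 2, 4, 2, 0, 4]),
  (11834, [0, 4, 2, 0, 4, 2, 4, 2, 1, 4]),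
  (11835, [0, 4, 2, 0, 4, 2, 4, 2, 4, 2]),
  (11940, [0, 4, 2, 1, 4, 2, 4, 2, 4, 2]),
  (11977, [0, 4, 2, 2, 0, 2, 0, 2, 0, 4]),
  (11979, [0, 4, 2, 2, 0, 2, 0, 2, 1, 4]),
  (11993, [0, 4, 2, 2, 0, 2, 0, 4, 2, 0]),
  (11994, [0, 4, 2, 2, 0, 2, 0, 4, 2, 1]),
  (11995, [0, 4, 2, 2, 0, 2, 0, 4, 2, 2]),
  (11998, [0, 4, 2, 2, 0, 2, 0, 4, 3, 3]),
  (12015, [0, 4, 2, 2, 0, 2, 1, 4, 2, 2]),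
  (12018, [0, 4, 2, 2, 0, 2, 1, 4, 3, 3]),
  (12040, [0, 4, 2, 2, 0, 2, 4, 2, 0, 2]),
  (12043, [0, 4, 2, 2, 0, 2, 4, 2, 1, 2]),
  (12046, [0, 4, 2, 2, 0, 2, 4, 2, 2, 0]),
  (12047, [0, 4, 2, 2, 0, 2, 4, 2, 2, 1]),
  (12048, [0, 4, 2, 2, 0, 2, 4, 2, 2, 2]),
  (12061, [0, 4, 2, 2, 0, 2, 4, 3, 4, 2]),
  (12088, [0, 4, 2, 2, 0, 4, 2, 0, 2, 0]),
  (12089, [0, 4, 2, 2, 0, 4, 2, 0, 2, 1]),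
  (12090, [0, 4, 2, 2, 0, 4, 2, 0, 2, 4]),
  (12093, [0, 4, 2, 2, 0, 4, 2, 0, 3, 0]),
  (12094, [0, 4, 2, 2, 0, 4, 2, 0, 3, 1]),
  (12101, [0, 4, 2, 2, 0, 4, 2, 1, 2, 4]),
  (12110, [0, 4, 2, 2, 0, 4, 2, 4, 2, 0]),
  (12111, [0, 4, 2, 2, 0, 4, 2, 4, 2, 1]),
  (12112, [0, 4, 2, 2, 0, 4, 2, 4, 2, 2]),
  (12182, [0, 4, 2, 2, 1, 2, 4, 2, 2, 2]),
  (12191, [0, 4, 2, 2, 1, 2, 4, 3, 4, 2]),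
  (12204, [0, 4, 2, 2, 1, 4, 2, 4, 2, 2]),
  (12240, [0, 4, 2, 2, 2, 0, 2, 0, 3, 4]),
  (12243, [0, 4, 2, 2, 2, 0, 2, 0, 4, 2]),
  (12249, [0, 4, 2, 2, 2, 0, 2, 1, 3, 4]),
  (12251, [0, 4, 2, 2, 2, 0, 2, 1, 4, 2]),
  (12255, [0, 4, 2, 2, 2, 0, 2, 4, 2, 2]),
  (12266, [0, 4, 2, 2, 2, 0, 3, 0, 2, 4]),
  (12275, [0, 4, 2, 2, 2, 0, 3, 1, 2, 4]),
  (12281, [0, 4, 2, 2, 2, 0, 3, 4, 3, 3]),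
  (12292, [0, 4, 2, 2, 2, 0, 4, 2, 0, 3]),
  (12293, [0, 4, 2, 2, 2, 0, 4, 2, 0, 4]),
  (12296, [0, 4, 2, 2, 2, 0, 4, 2, 1, 3]),
  (12297, [0, 4, 2, 2, 2, 0, 4, 2, 1, 4]),
  (12300, [0, 4, 2, 2, 2, 0, 4, 2, 4, 2]),
  (12309, [0, 4, 2, 2, 2, 0, 4, 3, 0, 2]),
  (12312, [0, 4, 2, 2, 2, 0, 4, 3, 1, 2]),
  (12315, [0, 4, 2, 2, 2, 0, 4, 3, 4, 3]),
  (12336, [0, 4, 2, 2, 2, 1, 2, 4, 2, 2]),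
  (12343, [0, 4, 2, 2, 2, 1, 3, 4, 3, 3]),
  (12350, [0, 4, 2, 2, 2, 1, 4, 2, 4, 2]),
  (12355, [0, 4, 2, 2, 2, 1, 4, 3, 4, 3]),
  (12368, [0, 4, 2, 2, 2, 4, 2, 4, 3, 0]),
  (12369, [0, 4, 2, 2, 2, 4, 2, 4, 3, 1]),
  (12370, [0, 4, 2, 2, 2, 4, 2, 4, 3, 4]),
  (12389, [0, 4, 2, 2, 2, 4, 3, 4, 2, 4]),
  (12541, [0, 4, 2, 2, 4, 2, 0, 4, 2, 2]),
  (12544, [0, 4, 2, 2, 4, 2, 0, 4, 3, 3]),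
  (12563, [0, 4, 2, 2, 4, 2, 1, 4, 2, 2]),
  (12566, [0, 4, 2, 2, 4, 2, 1, 4, 3, 3]),
  (12675, [0, 4, 2, 2, 4, 3, 4, 2, 2, 4]),
  (13000, [0, 4, 2, 4, 2, 0, 2, 0, 3, 0]),
  (13001, [0, 4, 2, 4, 2, 0, 2, 0, 3, 1]),
  (13004, [0, 4, 2, 4, 2, 0, 2, 0, 4, 3]),
  (13011, [0, 4, 2, 4, 2, 0, 2, 1, 4, 3]),
  (13016, [0, 4, 2, 4, 2, 0, 2, 2, 0, 4]),
  (13019, [0, 4, 2, 4, 2, 0, 2, 2, 1, 4]),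
  (13022, [0, 4, 2, 4, 2, 0, 2, 2, 4, 2]),
  (13031, [0, 4, 2, 4, 2, 0, 2, 4, 3, 3]),
  (13106, [0, 4, 2, 4, 2, 1, 2, 2, 4, 2]),
  (13111, [0, 4, 2, 4, 2, 1, 2, 4, 3, 3]),
  (13152, [0, 4, 2, 4, 2, 2, 0, 3, 0, 2]),
  (13155, [0, 4, 2, 4, 2, 2, 0, 3, 1, 2]),
  (13190, [0, 4, 2, 4, 2, 2, 2, 0, 2, 2]),
  (13197, [0, 4, 2, 4, 2, 2, 2, 1, 2, 2]),
  (13228, [0, 4, 2, 4, 2, 2, 4, 2, 0, 4]),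
  (13231, [0, 4, 2, 4, 2, 2, 4, 2, 1, 4]),
  (13234, [0, 4, 2, 4, 2, 2, 4, 2, 2, 2]),
  (13235, [0, 4, 2, 4, 2, 2, 4, 2, 2, 4]),
  (13340, [0, 4, 2, 4, 2, 4, 2, 2, 0, 4]),
  (13343, [0, 4, 2, 4, 2, 4, 2, 2, 1, 4]),
  (13346, [0, 4, 2, 4, 2, 4, 2, 2, 2, 4]),
  (13361, [0, 4, 2, 4, 2, 4, 2, 4, 3, 3]),
  (13619, [0, 4, 2, 4, 3, 3, 0, 4, 3, 4]),
  (13630, [0, 4, 2, 4, 3, 3, 1, 4, 3, 4]),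
  (13641, [0, 4, 2, 4, 3, 3, 4, 3, 0, 2]),
  (13642, [0, 4, 2, 4, 3, 3, 4, 3, 0, 4]),
  (13645, [0, 4, 2, 4, 3, 3, 4, 3, 1, 2]),
  (13646, [0, 4, 2, 4, 3, 3, 4, 3, 1, 4]),
  (13712, [0, 4, 2, 4, 3, 4, 3, 3, 4, 3]),
  (14270, [0, 4, 3, 0, 4, 3, 3, 0, 2, 2]),
  (14279, [0, 4, 3, 0, 4, 3, 3, 1, 2, 2]),
  (14394, [0, 4, 3, 1, 4, 3, 4, 3, 4, 3]),
  (14428, [0, 4, 3, 3, 0, 3, 0, 3, 0, 4]),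
  (14430, [0, 4, 3, 3, 0, 3, 0, 3, 1, 4]),
  (14437, [0, 4, 3, 3, 0, 3, 0, 4, 3, 0]),
  (14438, [0, 4, 3, 3, 0, 3, 0, 4, 3, 1]),
  (14439, [0, 4, 3, 3, 0, 3, 0, 4, 3, 3]),
  (14456, [0, 4, 3, 3, 0, 3, 1, 4, 3, 3]),
  (14495, [0, 4, 3, 3, 0, 4, 3, 0, 3, 0]),
  (14496, [0, 4, 3, 3, 0, 4, 3, 0, 3, 1]),
  (14497, [0, 4, 3, 3, 0, 4, 3, 0, 3, 4]),
  (14506, [0, 4, 3, 3, 0, 4, 3, 1, 3, 4]),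
  (14513, [0, 4, 3, 3, 0, 4, 3, 4, 3, 3]),
  (14585, [0, 4, 3, 3, 1, 4, 3, 4, 3, 3]),
  (14891, [0, 4, 3, 4, 2, 2, 1, 4, 2, 4]),
  (15123, [0, 4, 3, 4, 3, 3, 4, 2, 2, 2]),
  (15134, [0, 4, 3, 4, 3, 3, 4, 3, 3, 4]),
  (15223, [0, 4, 3, 4, 3, 4, 2, 2, 2, 4]),
  (15248, [0, 4, 3, 4, 3, 4, 3, 4, 2, 2]),
  (16099, [1, 4, 2, 4, 2, 2, 4, 2, 2, 2]),
  (16100, [1, 4, 2, 4, 2, 2, 4, 2, 2, 4]),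
  (16147, [1, 4, 2, 4, 2, 4, 2, 4, 3, 3]),
  (16413, [1, 4, 3, 4, 3, 3, 4, 2, 2, 2]),
  (16420, [1, 4, 3, 4, 3, 3, 4, 3, 3, 4]),
  (16467, [1, 4, 3, 4, 3, 4, 3, 4, 2, 2]),
  (16667, [4, 2, 0, 4, 2, 2, 0, 3, 0, 4]),
  (16670, [4, 2, 0, 4, 2, 2, 0, 3, 1, 4]),
  (16721, [4, 2, 0, 4, 2, 2, 4, 3, 4, 3]),
  (17359, [4, 2, 1, 4, 2, 2, 4, 3, 4, 3]),
  (17504, [4, 2, 2, 0, 2, 0, 3, 0, 2, 4]),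
  (17509, [4, 2, 2, 0, 2, 0, 3, 1, 2, 4]),
  (17512, [4, 2, 2, 0, 2, 0, 3, 4, 3, 4]),
  (17525, [4, 2, 2, 0, 2, 0, 4, 2, 2, 0]),
  (17526, [4, 2, 2, 0, 2, 0, 4, 2, 2, 1]),
  (17555, [4, 2, 2, 0, 2, 1, 3, 4, 3, 4]),
  (18263, [4, 2, 2, 2, 0, 2, 0, 3, 0, 4]),
  (18266, [4, 2, 2, 2, 0, 2, 0, 3, 1, 4]),
  (18268, [4, 2, 2, 2, 0, 2, 0, 3, 3, 4]),
  (18281, [4, 2, 2, 2, 0, 2, 1, 3, 3, 4]),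
  (18294, [4, 2, 2, 2, 0, 2, 4, 2, 2, 4]),
  (18341, [4, 2, 2, 2, 0, 3, 0, 2, 2, 4]),
  (18352, [4, 2, 2, 2, 0, 3, 1, 2, 2, 4]),
  (18363, [4, 2, 2, 2, 0, 3, 4, 3, 3, 4]),
  (18418, [4, 2, 2, 2, 0, 4, 2, 4, 2, 2]),
  (18453, [4, 2, 2, 2, 0, 4, 3, 4, 3, 3]),
  (18561, [4, 2, 2, 2, 1, 2, 4, 2, 2, 4]),
  (18575, [4, 2, 2, 2, 1, 3, 4, 3, 3, 4]),
  (18589, [4, 2, 2, 2, 1, 4, 2, 4, 2, 2]),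
  (18606, [4, 2, 2, 2, 1, 4, 3, 4, 3, 3]),
  (19007, [4, 2, 2, 4, 2, 0, 2, 4, 2, 0]),
  (19008, [4, 2, 2, 4, 2, 0, 2, 4, 2, 1]),
  (19069, [4, 2, 2, 4, 2, 0, 4, 2, 2, 4]),
  (19130, [4, 2, 2, 4, 2, 1, 4, 2, 2, 4]),
  (19483, [4, 2, 2, 4, 3, 4, 3, 3, 0, 2]),
  (19486, [4, 2, 2, 4, 3, 4, 3, 3, 1, 2]),
  (20208, [4, 2, 4, 2, 0, 2, 4, 3, 3, 0]),
  (20209, [4, 2, 4, 2, 0, 2, 4, 3, 3, 1]),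
  (21042, [4, 2, 4, 2, 4, 2, 4, 3, 3, 0]),
  (21043, [4, 2, 4, 2, 4, 2, 4, 3, 3, 1]),
  (21816, [4, 2, 4, 3, 3, 4, 3, 0, 2, 0]),
  (21817, [4, 2, 4, 3, 3, 4, 3, 0, 2, 1]),
  (23349, [4, 3, 0, 4, 3, 3, 0, 2, 0, 4]),
  (23352, [4, 3, 0, 4, 3, 3, 0, 2, 1, 4]),
  (23389, [4, 3, 0, 4, 3, 3, 4, 2, 4, 2]),
  (23893, [4, 3, 1, 4, 3, 3, 4, 2, 4, 2]),
  (24579, [4, 3, 3, 4, 2, 4, 2, 2, 0, 3]),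
  (24582, [4, 3, 3, 4, 2, 4, 2, 2, 1, 3]),
  (26107, [4, 3, 4, 3, 4, 3, 4, 2, 2, 0]),
  (26108, [4, 3, 4, 3, 4, 3, 4, 2, 2, 1]),
  (32695, [0, 4, 2, 4, 2, 4, 2, 4, 3, 3, 0]),
  (32696, [0, 4, 2, 4, 2, 4, 2, 4, 3, 3, 1]),
  (37249, [0, 4, 3, 4, 3, 4, 3, 4, 2, 2, 0]),
  (37250, [0, 4, 3, 4, 3, 4, 3, 4, 2, 2, 1])])

/-- level 1 of the chain -/
def lvB1 : ℕ × List (ℕ × List ℕ) := (5, [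
  (9, [2]),
  (10, [3]),
  (24, [2, 2]),
  (29, [3, 3]),
  (39, [1, 2, 0]),
  (45, [1, 3, 0]),
  (66, [2, 2, 2]),
  (105, [2, 1, 2, 0]),
  (111, [1, 2, 0, 1, 2, 0]),
  (128, [1, 3, 0, 1, 3, 0]),
  (298, [1, 2, 0, 1, 2, 0, 2]),
  (299, [2, 2, 1, 3, 0]),
  (306, [1, 2, 0, 1, 2, 0, 1, 2, 0]),
  (351, [1, 3, 0, 1, 3, 0, 3]),
  (399, [2, 2, 1, 2, 0, 3, 1, 3, 0, 2, 2]),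
  (413, [3, 3, 1, 3, 0, 2, 1, 2, 0, 3, 3]),
  (459, [2, 2, 1, 2, 0]),
  (609, [3, 3, 1, 3, 0]),
  (794, [3, 3, 1, 3, 0, 2, 1, 2, 0, 3]),
  (803, [1, 2, 0, 1, 2, 0, 2, 2]),
  (823, [1, 2, 0, 1, 2, 0, 1, 2, 0, 2]),
  (824, [1, 2, 0, 1, 2, 0, 1, 2, 0, 3]),
  (940, [2, 2, 1, 2, 0, 3, 1, 3, 0, 2]),
  (1122, [1, 3, 0, 1, 3, 0, 3, 1, 2, 0, 2, 1, 3, 0]),
  (1188, [2, 2, 1, 2, 0, 2]),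
  (1189, [2, 2, 1, 2, 0, 3]),
  (1193, [2, 2, 1, 2, 0, 1, 2, 0]),
  (1248, [2, 2, 2, 1, 2, 0]),
  (1253, [2, 2, 2, 1, 3, 0]),
  (1468, [1, 2, 0, 1, 2, 0, 2, 1, 3, 0, 3, 1, 2, 0]),
  (1588, [3, 3, 1, 3, 0, 2]),
  (1589, [3, 3, 1, 3, 0, 3]),
  (1985, [3, 3, 1, 3, 0, 2, 1, 2, 0]),
  (2037, [2, 2, 1, 2, 0, 3, 1, 3, 0, 2, 1, 2, 0]),
  (2180, [1, 2, 0, 1, 2, 0, 2, 1, 3, 0, 3, 1, 2, 0, 2]),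
  (2379, [2, 2, 1, 2, 0, 3, 1, 3, 0]),
  (2644, [2, 2, 1, 2, 0, 3, 1, 3, 0, 2, 1, 2, 0, 2]),
  (2809, [1, 3, 0, 1, 3, 0, 3, 1, 2, 0, 2]),
  (3087, [2, 2, 2, 1, 2, 0, 2]),
  (3088, [2, 2, 2, 1, 2, 0, 3]),
  (3101, [2, 2, 2, 1, 3, 0, 2]),
  (3102, [2, 2, 2, 1, 3, 0, 3]),
  (3660, [1, 2, 0, 1, 2, 0, 2, 1, 3, 0, 3]),
  (4871, [1, 2, 0, 1, 2, 0, 2, 1, 2, 0]),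
  (4876, [1, 2, 0, 1, 2, 0, 2, 1, 3, 0]),
  (5853, [1, 3, 0, 1, 3, 0, 3, 1, 2, 0]),
  (5857, [1, 3, 0, 1, 3, 0, 3, 1, 3, 0]),
  (7457, [1, 2, 0, 1, 2, 0, 2, 1, 3, 0, 2]),
  (7491, [1, 2, 0, 1, 2, 0, 1, 2, 0, 2, 1, 3, 0])])

/-- level 2 of the chain -/
def lvB2 : ℕ × List (ℕ × List ℕ) := (9, [
  (10, [2, 1, 2, 0, 2, 2, 2, 1, 2, 0, 2]),
  (24, [2, 1, 2, 0, 2, 1, 3, 0, 2, 1, 2, 0, 3, 3]),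
  (29, [3, 1, 2, 0, 1, 2, 0, 3, 1, 3, 0]),
  (39, [2, 2, 1, 3, 0, 2, 1, 2, 0, 1, 2, 0, 2, 2, 1, 3, 0, 1, 3, 0]),
  (45, [3, 1, 2, 0, 3]),
  (66, [2, 2, 1, 3, 0, 3, 1, 2, 0, 1, 2, 0, 2, 1, 3, 0, 2]),
  (111, [2, 1, 3, 0, 2]),
  (128, [2, 1, 2, 0, 2, 2, 2, 1, 2, 0, 1, 2, 0, 3]),
  (298, [3, 1, 3, 0, 1, 3, 0, 3, 3, 1, 2, 0, 3]),
  (306, [2, 2, 1, 2, 0, 1, 2, 0, 2, 1, 2, 0, 1, 2, 0, 2, 2]),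
  (351, [3, 1, 3, 0, 1, 3, 0, 3]),
  (459, [1, 3, 0, 2, 2, 2, 1, 2, 0]),
  (609, [2, 2, 1, 3, 0, 3, 1, 2, 0, 3, 1, 3, 0, 3]),
  (794, [2, 2, 1, 3, 0, 3, 1, 2, 0, 2, 1, 3, 0]),
  (803, [3, 1, 2, 0, 1, 2, 0, 2, 2, 1, 3, 0]),
  (823, [3, 1, 2, 0, 1, 2, 0, 1, 2, 0, 2]),
  (824, [1, 2, 0, 1, 2, 0, 3, 3, 1, 2, 0, 3, 3, 1, 3, 0]),
  (940, [2, 1, 2, 0, 3, 1, 3, 0, 2, 1, 2, 0, 2, 2, 1, 3, 0]),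
  (1122, [2, 2, 1, 3, 0, 3, 1, 2, 0, 2, 2, 2, 1, 2, 0]),
  (1188, [2, 1, 2, 0, 2, 2, 1, 3, 0]),
  (1189, [2, 2, 1, 3, 0, 3, 1, 2, 0, 1, 2, 0]),
  (1193, [2, 1, 2, 0, 1, 2, 0, 2]),
  (1248, [2, 1, 2, 0, 3, 1, 3, 0, 3, 1, 2, 0, 3]),
  (1253, [1, 3, 0, 3, 3, 1, 3, 0]),
  (1468, [1, 2, 0, 1, 2, 0, 3, 1, 3, 0, 2, 1, 2, 0, 1, 2, 0, 2, 1, 2, 0]),
  (1588, [1, 3, 0, 3, 3, 1, 2, 0, 3, 3, 1, 2, 0, 1, 2, 0]),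
  (1589, [2, 1, 2, 0, 2, 1, 2, 0]),
  (1985, [2, 1, 2, 0, 3, 3, 1, 2, 0]),
  (2037, [2, 2, 1, 3, 0, 3, 1, 2, 0, 3, 3, 1, 3, 0]),
  (2180, [2, 1, 2, 0, 3, 1, 3, 0, 2, 1, 2, 0, 2, 1, 2, 0]),
  (2379, [2, 1, 2, 0, 3, 1, 3, 0]),
  (2809, [3, 1, 2, 0, 3, 1, 3, 0, 3, 1, 2, 0, 2]),
  (3088, [2, 1, 2, 0, 1, 2, 0, 2, 1, 3, 0, 3, 3, 1, 3, 0]),
  (3101, [2, 1, 3, 0, 2, 1, 2, 0, 2, 1, 3, 0, 3]),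
  (3660, [2, 2, 1, 3, 0, 1, 3, 0, 2, 2]),
  (4871, [3, 1, 2, 0, 1, 2, 0, 2, 1, 2, 0]),
  (4876, [2, 1, 2, 0, 3, 1, 3, 0, 1, 3, 0, 3, 1, 2, 0, 2]),
  (5853, [3, 1, 3, 0, 1, 3, 0, 3, 3, 1, 3, 0, 2, 1, 2, 0]),
  (5857, [2, 1, 3, 0, 2, 2, 1, 2, 0, 3, 3, 1, 2, 0]),
  (7457, [2, 1, 3, 0, 2, 2, 1, 3, 0, 2]),
  (7491, [2, 1, 2, 0, 1, 2, 0, 2, 1, 3, 0, 3, 1, 2, 0, 2])])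

/-- level 3 of the chain -/
def lvB3 : ℕ × List (ℕ × List ℕ) := (10, [
  (24, [2, 1, 3, 0, 1, 3, 0, 2, 1, 2, 0]),
  (29, [3, 1, 3, 0, 3, 3, 1, 2, 0, 3, 1, 3, 0, 2, 1, 2, 0]),
  (66, [1, 2, 0, 2, 2, 2, 1, 3, 0, 1, 3, 0, 3, 1, 2, 0, 1, 2, 0, 3]),
  (128, [1, 2, 0, 3, 1, 3, 0, 3, 1, 3, 0, 1, 3, 0, 3, 1, 2, 0, 2, 1, 2, 0, 1, 2, 0]),
  (298, [1, 2, 0, 3, 1, 3, 0, 1, 3, 0, 2, 2, 2, 1, 2, 0, 1, 2, 0, 2, 1, 3, 0]),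
  (306, [1, 3, 0, 2, 2, 1, 2, 0, 2, 2, 1, 3, 0, 1, 3, 0, 2, 2, 1, 3, 0]),
  (351, [3, 1, 2, 0, 3, 3, 1, 3, 0, 3, 3, 1, 2, 0]),
  (459, [3, 1, 3, 0, 3, 1, 3, 0, 1, 3, 0, 3, 1, 2, 0, 1, 2, 0, 3]),
  (609, [1, 2, 0, 2, 2, 2, 1, 3, 0]),
  (803, [1, 3, 0, 2, 2, 1, 2, 0, 1, 2, 0, 1, 2, 0, 3, 3, 1, 2, 0]),
  (823, [1, 3, 0, 2, 2, 1, 2, 0, 1, 2, 0, 2, 1, 3, 0, 3, 1, 2, 0, 1, 2, 0]),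
  (824, [1, 3, 0, 3, 1, 2, 0, 1, 2, 0, 3]),
  (940, [3, 3, 1, 2, 0, 1, 2, 0, 3, 1, 3, 0, 1, 3, 0, 2, 2, 2, 1, 2, 0, 2]),
  (1122, [3, 3, 1, 2, 0, 1, 2, 0, 3, 1, 3, 0, 1, 3, 0, 2, 2, 1, 3, 0]),
  (1188, [3, 1, 3, 0, 3, 1, 3, 0]),
  (1189, [3, 3, 1, 2, 0, 1, 2, 0, 3, 1, 3, 0, 1, 3, 0, 3, 1, 3, 0]),
  (1193, [3, 1, 3, 0, 2, 2, 2, 1, 2, 0, 2]),
  (1248, [1, 3, 0, 1, 3, 0, 3, 1, 3, 0, 2, 1, 2, 0, 3, 1, 3, 0, 3, 1, 3, 0, 1, 3, 0]),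
  (1468, [1, 3, 0, 1, 3, 0, 2, 2, 1, 3, 0, 2, 1, 2, 0, 2, 2, 1, 3, 0, 2]),
  (1588, [1, 2, 0, 2, 2, 1, 2, 0, 3, 1, 3, 0, 2, 1, 2, 0]),
  (1985, [1, 3, 0, 3, 1, 2, 0, 2, 1, 3, 0, 3, 3, 1, 3, 0]),
  (2180, [3, 1, 3, 0, 2, 1, 2, 0, 3, 1, 3, 0, 2, 1, 2, 0]),
  (2379, [3, 1, 3, 0, 2, 2, 1, 3, 0]),
  (2809, [2, 1, 2, 0, 3, 1, 3, 0, 1, 3, 0, 3, 3, 1, 3, 0, 2, 1, 2, 0, 3, 1, 3, 0]),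
  (3101, [3, 1, 3, 0, 3, 3, 1, 3, 0, 2, 1, 2, 0, 3, 1, 3, 0, 2]),
  (4871, [2, 1, 3, 0, 2, 1, 2, 0, 2, 2, 2, 1, 3, 0, 3, 1, 2, 0, 3]),
  (4876, [1, 3, 0, 2, 2, 1, 2, 0, 2, 2, 1, 3, 0, 1, 3, 0, 3, 1, 3, 0]),
  (5853, [3, 1, 2, 0, 3, 3, 1, 3, 0, 3, 1, 2, 0, 3, 3, 1, 2, 0, 1, 2, 0]),
  (7457, [3, 3, 1, 2, 0, 3, 1, 3, 0, 2, 2, 2, 1, 2, 0, 1, 2, 0, 2, 1, 3, 0])])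

/-- level 4 of the chain -/
def lvB4 : ℕ × List (ℕ × List ℕ) := (24, [
  (1122, [2, 1, 3, 0, 3, 1, 2, 0, 2, 1, 3, 0, 3, 1, 2, 0])])

/-- the chain -/
def chB : List (ℕ × List (ℕ × List ℕ)) := [lvB0, lvB1, lvB2, lvB3, lvB4]

/-- the generators -/
def gB : List (List ℕ) := [[0], [2], [4]]

set_option Elab.async false in
theorem chk_lvB0 : chkLevel HNBig.px 1539000 gB [] lvB0.1 lvB0.2 = true := by decide +kernel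

set_option Elab.async false in
theorem chk_lvB1 : chkLevel HNBig.px 1539000 gB [1] lvB1.1 lvB1.2 = true := by decide +kernel

set_option Elab.async false in
theorem chk_lvB2 : chkLevel HNBig.px 1539000 gB [5, 1] lvB2.1 lvB2.2 = true := by decide +kernel

set_option Elab.async false in
theorem chk_lvB3 : chkLevel HNBig.px 1539000 gB [9, 5, 1] lvB3.1 lvB3.2 = true := by decide +kernel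

set_option Elab.async false in
theorem chk_lvB4 : chkLevel HNBig.px 1539000 gB [10, 9, 5, 1] lvB4.1 lvB4.2 = true := by decide +kernel

theorem chk_chB : chkChain HNBig.px 1539000 gB [] chB = true := by
  simp only [chB, chkChain, Bool.and_eq_true, and_true]
  exact ⟨chk_lvB0, chk_lvB1, chk_lvB2, chk_lvB3, chk_lvB4⟩

theorem sizes_chB : sizes chB = 177408000 := by decide +kernel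

theorem allBase_chB : allBase [] chB = [24, 10, 9, 5, 1] := by decide +kernel

end Cfsg.Agent.Lib.Helper2.HNA
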