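import Mathlib

set_option autoImplicit false

/-! # Realising a simple group as a transitive permutation group on the cosets of a subgroup -/

namespace Cfsg.Agent.Lib.Helper2.CosetReal

open MulAction

variable {G : Type*} [Group G]

/-- An equivalence `G ⧸ A ≃ Fin n` sending the trivial coset to `0`. -/
theorem exists_equiv (A : Subgroup G) (n : ℕ) [NeZero n] (h : A.index = n) :
    ∃ e : G ⧸ A ≃ Fin n, e (QuotientGroup.mk 1) = 0 := by
  have hn : n ≠ 0 := NeZero.ne n
  have hc : Nat.card (G ⧸ A) = n := by rw [← h]; rfl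
  have hfin : Finite (G ⧸ A) := Nat.finite_of_card_ne_zero (by rw [hc]; exact hn)
  have hc2 : Nat.card (G ⧸ A) = Nat.card (Fin n) := by rw [hc, Nat.card_fin]
  obtain ⟨e0⟩ := (Finite.card_eq).mp hc2
  refine ⟨e0.trans (Equiv.swap (e0 (QuotientGroup.mk 1)) 0), ?_⟩
  rw [Equiv.trans_apply, Equiv.swap_apply_left]

/-- the permutation representation on `Fin n` transported along `e` -/
noncomputable def rho (A : Subgroup G) {n : ℕ} (e : G ⧸ A ≃ Fin n) : G →* Equiv.Perm (Fin n) :=
  (e.permCongrHom.toMonoidHom).comp (MulAction.toPermHom G (G ⧸ A))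

theorem rho_apply (A : Subgroup G) {n : ℕ} (e : G ⧸ A ≃ Fin n) (g : G) (p : Fin n) :
    rho A e g p = e (g • e.symm p) := by
  simp [rho, Equiv.permCongrHom, Equiv.permCongr_apply]

theorem rho_zero_iff (A : Subgroup G) {n : ℕ} [NeZero n] (e : G ⧸ A ≃ Fin n)
    (he : e (QuotientGroup.mk 1) = 0) (g : G) : rho A e g 0 = 0 ↔ g ∈ A := by
  rw [rho_apply, ← he, Equiv.symm_apply_apply, e.apply_eq_iff_eq]
  rw [MulAction.Quotient.smul_mk, smul_eq_mul, mul_one]
  rw [QuotientGroup.eq]
  constructor
  · intro h
    have := A.inv_mem h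
    simpa using this
  · intro h
    simpa using A.inv_mem h

theorem rho_injective [IsSimpleGroup G] (A : Subgroup G) (hA : A ≠ ⊤) {n : ℕ} [NeZero n]
    (e : G ⧸ A ≃ Fin n) (he : e (QuotientGroup.mk 1) = 0) : Function.Injective (rho A e) := by
  rw [← MonoidHom.ker_eq_bot_iff]
  rcases (rho A e).normal_ker.eq_bot_or_eq_top with h | h
  · exact h
  · exfalso
    apply hA
    rw [eq_top_iff]
    intro g _
    have hg : g ∈ (rho A e).ker := by rw [h]; trivial
    rw [MonoidHom.mem_ker] at hg
    rw [← rho_zero_iff A e he g, hg]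
    rfl

/-- **Coset realisation**: a simple group with a proper subgroup `A` of index `n` is isomorphic
to a transitive subgroup of `Perm (Fin n)` whose stabiliser of `0` is isomorphic to `A`. -/
theorem exists_perm_realization [IsSimpleGroup G] (A : Subgroup G) (n : ℕ) [NeZero n]
    (h : A.index = n) (hA : A ≠ ⊤) :
    ∃ H : Subgroup (Equiv.Perm (Fin n)), Nonempty (G ≃* H) ∧
      MulAction.IsPretransitive H (Fin n) ∧
      Nonempty (MulAction.stabilizer H (0 : Fin n) ≃* A) := by
  obtain ⟨e, he⟩ := exists_equiv A n h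
  have hinj := rho_injective A hA e he
  refine ⟨(rho A e).range, ⟨MonoidHom.ofInjective hinj⟩, ⟨?_⟩, ?_⟩
  · intro p q
    obtain ⟨g, hg⟩ := MulAction.exists_smul_eq G (e.symm p) (e.symm q)
    refine ⟨⟨rho A e g, g, rfl⟩, ?_⟩
    show rho A e g p = q
    rw [rho_apply, hg, Equiv.apply_symm_apply]
  · have hmem : ∀ a : A, (⟨rho A e a, (a : G), rfl⟩ : (rho A e).range) ∈
        MulAction.stabilizer (rho A e).range (0 : Fin n) := by
      intro a
      rw [MulAction.mem_stabilizer_iff]
      show rho A e a 0 = 0
      exact (rho_zero_iff A e he a).mpr a.2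
    let f : A →* MulAction.stabilizer (rho A e).range (0 : Fin n) :=
      { toFun := fun a => ⟨⟨rho A e a, (a : G), rfl⟩, hmem a⟩
        map_one' := by
          apply Subtype.ext; apply Subtype.ext
          show rho A e ((1 : A) : G) = 1
          rw [Subgroup.coe_one, map_one]
        map_mul' := by
          intro a b
          apply Subtype.ext; apply Subtype.ext
          show rho A e ((a * b : A) : G) = rho A e a * rho A e b
          rw [Subgroup.coe_mul, map_mul] }
    have hf : Function.Bijective f := by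
      constructor
      · intro a b hab
        have h0 := congrArg (fun s : MulAction.stabilizer (rho A e).range (0 : Fin n) =>
          ((s : (rho A e).range) : Equiv.Perm (Fin n))) hab
        have h1 : rho A e a = rho A e b := h0
        exact Subtype.ext (hinj h1)
      · rintro ⟨⟨s, g, rfl⟩, hs⟩
        rw [MulAction.mem_stabilizer_iff] at hs
        have hs' : rho A e g 0 = 0 := hs
        have hgA : g ∈ A := (rho_zero_iff A e he g).mp hs'
        exact ⟨⟨g, hgA⟩, rfl⟩
    exact ⟨(MulEquiv.ofBijective f hf).symm⟩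

end Cfsg.Agent.Lib.Helper2.CosetReal
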