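import Cfsg.Agent.Lib.Helper2.HNA.A12
import Cfsg.Agent.Lib.Helper2.HNA.CosetReal
import Cfsg.Agent.Lib.Helper7.AltMul2

set_option autoImplicit false
set_option maxRecDepth 100000

/-! # The presented Harada–Norton group as a transitive permutation group on the 1140000 cosets of
a subgroup isomorphic to the alternating group of degree twelve -/

namespace Cfsg.Agent.Lib.Helper2.HNA

open Cfsg.Spor Cfsg.Agent.Lib.Helper2.HNS

/-- a subgroup isomorphic to the alternating group of degree twelve -/
theorem exists_A12 : ∃ A : Subgroup HNG, Nonempty (A ≃* alternatingGroup (Fin 12)) := by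
  obtain ⟨φ, hφ⟩ := Cfsg.Agent.Lib.Helper7.AltMul.exists_lift (m := 10) yv yv_pow_three yv_mul_sq
  have hs : IsSimpleGroup (alternatingGroup (Fin (10 + 2))) :=
    alternatingGroup.isSimpleGroup (by rw [Nat.card_eq_fintype_card, Fintype.card_fin]; norm_num)
  have hinj : Function.Injective φ := by
    rw [← MonoidHom.ker_eq_bot_iff]
    rcases φ.normal_ker.eq_bot_or_eq_top with h | h
    · exact h
    · exfalso
      have h1 : Cfsg.Agent.Lib.Helper7.AltMul.cgen 10 0 ∈ φ.ker := by rw [h]; trivial
      rw [MonoidHom.mem_ker, hφ 0] at h1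
      exact yv_zero_ne_one h1
  exact ⟨φ.range, ⟨(MonoidHom.ofInjective hinj).symm⟩⟩

theorem card_alt12 : Nat.card (alternatingGroup (Fin 12)) = 239500800 := by
  have h := Cfsg.Agent.Lib.Helper7.AltMul.card_alt 10
  have h2 : (10 + 2).factorial = 479001600 := by decide
  rw [h2] at h
  have h3 : Nat.card (alternatingGroup (Fin 12)) = Nat.card (alternatingGroup (Fin (10 + 2))) := rfl
  omega

/-- the realisation of the presented group as a permutation group of degree 1140000 -/
theorem realization : ∃ H : Subgroup (Equiv.Perm (Fin 1140000)),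
    (IsSimpleGroup H ∧ Nat.card H = 273030912000000) ∧
      MulAction.IsPretransitive H (Fin 1140000) ∧
      Nonempty (MulAction.stabilizer H (0 : Fin 1140000) ≃* alternatingGroup (Fin 12)) := by
  obtain ⟨A, ⟨eA⟩⟩ := exists_A12
  have := finite_HNG
  have := simple_HNG
  have hcardA : Nat.card A = 239500800 := by
    rw [Nat.card_congr eA.toEquiv, card_alt12]
  have hidx : A.index = 1140000 := by
    have h := A.index_mul_card
    rw [hcardA, card_HNG] at h
    omega
  have hA : A ≠ ⊤ := by
    intro h
    rw [h, Subgroup.index_top] at hidx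
    omega
  haveI : NeZero 1140000 := ⟨by norm_num⟩
  obtain ⟨H, ⟨e⟩, htr, ⟨es⟩⟩ := CosetReal.exists_perm_realization A 1140000 hidx hA
  refine ⟨H, ⟨e.symm.isSimpleGroup, ?_⟩, htr, ⟨es.trans eA⟩⟩
  rw [← Nat.card_congr e.toEquiv, card_HNG]

end Cfsg.Agent.Lib.Helper2.HNA
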