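import Cfsg.Agent.Lib.Helper2.HNA.ChBig
import Cfsg.Agent.Lib.Helper2.HNS.Simple

set_option autoImplicit false
set_option maxRecDepth 100000

/-! # The word problem of the presented Harada–Norton group, solved in the model on 1539000 points -/

namespace Cfsg.Agent.Lib.Helper2.HNA

open Cfsg.Spor Cfsg.Agent.Lib.Helper6.TC Cfsg.Agent.Lib.Helper6.TCP Cfsg.Agent.Lib.Helper2.HNDce
open Cfsg.Agent.Lib.Helper2.HNS

/-- the permutation representation on 1539000 points -/
noncomputable def phiB : HNG →* Equiv.Perm (Fin HNBig.N) := Classical.choose HNBig.rep_exists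

theorem phiB_act : ∀ w, (∀ c ∈ w, c < 7) → ∀ p : Fin HNBig.N,
    ((phiB (W7.ev w))⁻¹ p).val = wapp HNBig.px w p.val :=
  (Classical.choose_spec HNBig.rep_exists).1

theorem phiB_fix : ∀ h ∈ subH HN.Rels HNBig.S, phiB h ⟨0, HNBig.hP.Npos⟩ = ⟨0, HNBig.hP.Npos⟩ :=
  (Classical.choose_spec HNBig.rep_exists).2.1

theorem phiB_trans : ∀ p : Fin HNBig.N, ∃ g, phiB g ⟨0, HNBig.hP.Npos⟩ = p :=
  (Classical.choose_spec HNBig.rep_exists).2.2

/-- the stabiliser of the point `0` is the subgroup generated by `x, y, z` -/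
theorem mem_of_fix_zero (g : HNG) (hg : phiB g ⟨0, HNBig.hP.Npos⟩ = ⟨0, HNBig.hP.Npos⟩) :
    g ∈ subH HN.Rels HNBig.S := by
  let Hs : Subgroup HNG := subH HN.Rels HNBig.S
  have hidx : Hs.index = HNBig.N := Cfsg.Agent.S1707.main
  let F0 : (HNG ⧸ Hs) → Fin HNBig.N :=
    fun q => Quotient.liftOn' q (fun g => phiB g ⟨0, HNBig.hP.Npos⟩) (by
      intro a b hab
      rw [QuotientGroup.leftRel_apply] at hab
      have := phiB_fix _ hab
      rw [map_mul, map_inv, Equiv.Perm.mul_apply, Equiv.Perm.inv_eq_iff_eq] at this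
      exact this.symm)
  have hF0 : ∀ g : HNG, F0 (QuotientGroup.mk g) = phiB g ⟨0, HNBig.hP.Npos⟩ := fun g => rfl
  have hsurj : Function.Surjective F0 := by
    intro p
    obtain ⟨g, hg⟩ := phiB_trans p
    exact ⟨QuotientGroup.mk g, by rw [hF0, hg]⟩
  have : Finite (HNG ⧸ Hs) := Nat.finite_of_card_ne_zero (by
    show Hs.index ≠ 0
    rw [hidx]; exact Nat.pos_iff_ne_zero.mp HNBig.hP.Npos)
  have hbij : Function.Bijective F0 := by
    apply hsurj.bijective_of_nat_card_le
    rw [Nat.card_eq_fintype_card (α := Fin HNBig.N), Fintype.card_fin]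
    exact le_of_eq hidx
  have h1 : F0 (QuotientGroup.mk g) = F0 (QuotientGroup.mk 1) := by
    rw [hF0, hF0, hg, map_one]; rfl
  have h2 := hbij.1 h1
  rw [QuotientGroup.eq] at h2
  have h3 : g⁻¹ * 1 ∈ Hs := h2
  rw [mul_one] at h3
  have h4 : g⁻¹⁻¹ ∈ Hs := Hs.inv_mem h3
  rwa [inv_inv] at h4

theorem gB_lt : ∀ w ∈ gB, ∀ c ∈ w, c < 7 := by decide

theorem genSub_eq : genSub W7 gB = subH HN.Rels HNBig.S := by
  have e0 : W7.ev [0] = PresentedGroup.mk HN.Rels HN.x := by
    show ev7 [0] = _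
    unfold ev7; rw [wordElt_cons, wordElt_nil, mul_one, HN.ce0]
  have e2 : W7.ev [2] = PresentedGroup.mk HN.Rels HN.y := by
    show ev7 [2] = _
    unfold ev7; rw [wordElt_cons, wordElt_nil, mul_one, HN.ce2]
  have e4 : W7.ev [4] = PresentedGroup.mk HN.Rels HN.z := by
    show ev7 [4] = _
    unfold ev7; rw [wordElt_cons, wordElt_nil, mul_one, HN.ce4]
  apply le_antisymm
  · unfold genSub
    rw [Subgroup.closure_le]
    rintro g ⟨w, hw, rfl⟩
    simp only [gB, List.mem_cons, List.mem_nil_iff, or_false] at hw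
    rcases hw with rfl | rfl | rfl
    · rw [e0]; exact Subgroup.mem_map_of_mem _ (Subgroup.subset_closure (by simp [HNBig.S]))
    · rw [e2]; exact Subgroup.mem_map_of_mem _ (Subgroup.subset_closure (by simp [HNBig.S]))
    · rw [e4]; exact Subgroup.mem_map_of_mem _ (Subgroup.subset_closure (by simp [HNBig.S]))
  · unfold subH
    rw [MonoidHom.map_closure, Subgroup.closure_le]
    rintro _ ⟨s, hs, rfl⟩
    simp only [HNBig.S, Set.mem_insert_iff, Set.mem_singleton_iff] at hs
    rcases hs with rfl | rfl | rfl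
    · rw [SetLike.mem_coe, ← e0]; exact Subgroup.subset_closure ⟨[0], by simp [gB], rfl⟩
    · rw [SetLike.mem_coe, ← e2]; exact Subgroup.subset_closure ⟨[2], by simp [gB], rfl⟩
    · rw [SetLike.mem_coe, ← e4]; exact Subgroup.subset_closure ⟨[4], by simp [gB], rfl⟩

theorem card_genSub : Nat.card (genSub W7 gB) = 177408000 := by
  rw [genSub_eq]
  exact card_GH

/-- the pointwise stabiliser of the six base points is trivial -/
theorem base_trivial : genSub W7 gB ⊓ pfix phiB [24, 10, 9, 5, 1] = ⊥ := by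
  have : Finite HNG := finite_HNG
  have h1 := chain_lb W7 phiB HNBig.px phiB_act gB gB_lt chB [] chk_chB
  rw [sizes_chB, allBase_chB] at h1
  have h2 : Nat.card (genSub W7 gB ⊓ pfix phiB [] : Subgroup HNG) ≤ 177408000 := by
    rw [← card_genSub]
    exact Subgroup.card_le_of_le inf_le_left
  have hpos : 0 < Nat.card (genSub W7 gB ⊓ pfix phiB [24, 10, 9, 5, 1] : Subgroup HNG) :=
    Nat.card_pos
  have h3 : Nat.card (genSub W7 gB ⊓ pfix phiB [24, 10, 9, 5, 1] : Subgroup HNG) = 1 := by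
    nlinarith
  exact Subgroup.card_eq_one.mp h3

/-- the base points -/
def base6 : List ℕ := [0, 1, 5, 9, 10, 24]

/-- **The word problem**: a word in the seven columns which fixes the six base points is trivial. -/
theorem word_trivial (w : List ℕ) (hw : ∀ c ∈ w, c < 7)
    (h : ∀ b ∈ base6, wapp HNBig.px w b = b) : ev7 w = 1 := by
  have hfixp : ∀ b ∈ base6, ∀ hb : b < HNBig.N, phiB (ev7 w) ⟨b, hb⟩ = ⟨b, hb⟩ := by
    intro b hb hbN
    have h1 := phiB_act w hw ⟨b, hbN⟩
    rw [h b hb] at h1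
    have h2 : (phiB (W7.ev w))⁻¹ ⟨b, hbN⟩ = ⟨b, hbN⟩ := Fin.ext h1
    rw [Equiv.Perm.inv_eq_iff_eq] at h2
    exact h2.symm
  have hmem : ev7 w ∈ genSub W7 gB ⊓ pfix phiB [24, 10, 9, 5, 1] := by
    refine ⟨?_, ?_⟩
    · rw [genSub_eq]
      exact mem_of_fix_zero _ (hfixp 0 (by simp [base6]) HNBig.hP.Npos)
    · intro b hb hbN
      apply hfixp b _ hbN
      simp only [List.mem_cons, List.mem_nil_iff, or_false] at hb
      rcases hb with rfl | rfl | rfl | rfl | rfl <;> simp [base6]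
  rw [base_trivial, Subgroup.mem_bot] at hmem
  exact hmem

/-- a word which moves a point is not trivial -/
theorem word_ne_one (w : List ℕ) (hw : ∀ c ∈ w, c < 7) (p : ℕ) (hp : p < HNBig.N)
    (h : wapp HNBig.px w p ≠ p) : ev7 w ≠ 1 := by
  intro e
  have h1 := phiB_act w hw ⟨p, hp⟩
  have e' : W7.ev w = 1 := e
  rw [e', map_one, inv_one] at h1
  exact h h1.symm

end Cfsg.Agent.Lib.Helper2.HNA
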